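import Cfsg.Agent.H73.Asch.SuzukiNone
import Cfsg.Agent.H51.Asch.UnitaryNone
import Cfsg.Agent.H6.Asch.Dispatch

/-!
A line without translations has `Q = E` and `|E| = 8`: so `NoTranslationStep` follows from the kill
of that case.
-/

set_option autoImplicit false
set_option linter.style.haveILetI false

namespace Cfsg.Agent.H73.Asch

open Subgroup MulAction
open Cfsg.Agent.H14.Asch
open Cfsg.Agent.H51.Asch (HasTranslation)

universe u v

variable {G : Type u} [Group G] [Finite G] {Ω : Type v} [MulAction G Ω] [Finite Ω] {D : Set G}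

omit [Finite Ω] in
/-- A line with `|Q| = |E| ^ 2` has injective squaring on `Q / E`. -/
theorem squaring_of_card_sq (h : Crit G Ω D) {u : G} {x y : Ω} {E Q : Subgroup G}
    (hl : Line2 D u x E Q) (hy : u • y = y) (hyx : y ≠ x)
    (hQ : Nat.card Q = Nat.card E ^ 2) : Squaring Q E := by
  classical
  obtain ⟨A, hA, hodd, hAQ, hcyc, htr, -, hshape⟩ := hl.torus y hy hyx ⊥ IsPGroup.of_bot bot_le
    (fun e _ t ht => by rw [mem_bot.mp ht]; exact Commute.one_right e) bot_le
  have h4 := hl.four_le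
  rcases hshape with e | hs | ⟨a, ha, haE, hafix⟩
  · rw [e] at hQ
    nlinarith
  · exact ⟨hs.1, hs.2⟩
  exfalso
  have hS := H29.Asch.special_of_line2 h hl
  have hEQ : ∀ b ∈ A, ∀ g ∈ E, b * g * b⁻¹ ∈ E := fun b hb g hg =>
    hS.omega _ ((mem_normalizer_iff.mp (hAQ hb) g).mp (hS.le hg)) (by
      rw [show b * g * b⁻¹ * (b * g * b⁻¹) = b * (g * g) * b⁻¹ by group, hS.two g hg]; group)
  have hnorm : (E.subgroupOf Q).Normal := ⟨fun n hn q => mem_subgroupOf.mpr (by
    have hn' := mem_subgroupOf.mp hn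
    push_cast
    rwa [← (hl.central _ hn' q q.2).eq, mul_inv_cancel_right])⟩
  -- the square of an element of `Q` outside `E`
  obtain ⟨g₀, hg₀, hg₀E⟩ : ∃ g ∈ Q, g ∉ E := by
    by_contra hcon
    push Not at hcon
    have := card_le_of_le (show Q ≤ E from hcon)
    nlinarith
  have hsq1 : ∀ g ∈ Q, g ∉ E → g * g ≠ 1 := fun g hg hgE e => hgE (hS.omega g hg e)
  let pick : ({e : E // e ≠ 1}) → Q := fun e =>
    ⟨(htr _ (hl.sq_mem g₀ hg₀) _ e.1.2 (hsq1 g₀ hg₀ hg₀E)
      fun h1 => e.2 (Subtype.ext h1)).choose * g₀ *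
      (htr _ (hl.sq_mem g₀ hg₀) _ e.1.2 (hsq1 g₀ hg₀ hg₀E)
        fun h1 => e.2 (Subtype.ext h1)).choose⁻¹,
      (mem_normalizer_iff.mp (hAQ (htr _ (hl.sq_mem g₀ hg₀) _ e.1.2 (hsq1 g₀ hg₀ hg₀E)
        fun h1 => e.2 (Subtype.ext h1)).choose_spec.1) g₀).mp hg₀⟩
  have hpick : ∀ e : {e : E // e ≠ 1}, ((pick e : Q) : G) * pick e = (e.1 : G) := fun e => by
    have h1 := (htr _ (hl.sq_mem g₀ hg₀) _ e.1.2 (hsq1 g₀ hg₀ hg₀E)
      fun h1 => e.2 (Subtype.ext h1)).choose_spec.2
    set b := (htr _ (hl.sq_mem g₀ hg₀) _ e.1.2 (hsq1 g₀ hg₀ hg₀E)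
      fun h1 => e.2 (Subtype.ext h1)).choose
    show b * g₀ * b⁻¹ * (b * g₀ * b⁻¹) = (e.1 : G)
    rw [← h1]
    group
  have hconjQ : ∀ g : Q, a * (g : G) * a⁻¹ ∈ Q := fun g =>
    (mem_normalizer_iff.mp (hAQ ha) _).mp g.2
  -- twice as many classes as non-trivial elements of `E`
  let θ : {e : E // e ≠ 1} × Bool → {z : Q ⧸ E.subgroupOf Q // z ≠ 1} := fun p =>
    ⟨QuotientGroup.mk (if p.2 then (⟨_, hconjQ (pick p.1)⟩ : Q) else pick p.1), by
      intro h1
      have h2 := hS.two _ (mem_subgroupOf.mp ((QuotientGroup.eq_one_iff _).mp h1))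
      apply p.1.2
      refine Subtype.ext ?_
      rw [← hpick p.1]
      split_ifs at h2 with hb
      · rw [show a * (pick p.1 : G) * a⁻¹ * (a * (pick p.1 : G) * a⁻¹) =
          a * ((pick p.1 : G) * pick p.1) * a⁻¹ by group, conj_eq_one_iff] at h2
        exact h2
      · exact h2⟩
  have hsqval : ∀ p, ∀ q : Q, (θ p).1 = QuotientGroup.mk q → (q : G) * q = (p.1.1 : G) := by
    intro p q hq
    have h1 := mem_subgroupOf.mp (QuotientGroup.eq.mp hq)
    push_cast at h1
    set w : Q := if p.2 then ⟨_, hconjQ (pick p.1)⟩ else pick p.1 with hw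
    have hqw : (q : G) = w * ((w : G)⁻¹ * q) := by rw [mul_inv_cancel_left]
    have hc := hl.central _ h1 w w.2
    rw [hqw, hc.mul_mul_mul_comm, hS.two _ h1, mul_one, hw]
    split_ifs
    · show a * (pick p.1 : G) * a⁻¹ * (a * (pick p.1 : G) * a⁻¹) = _
      rw [show a * (pick p.1 : G) * a⁻¹ * (a * (pick p.1 : G) * a⁻¹) =
          a * ((pick p.1 : G) * pick p.1) * a⁻¹ by group, hpick, (haE _ p.1.1.2).eq,
        mul_inv_cancel_right]
    · exact hpick p.1
  have hθ : Function.Injective θ := by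
    rintro ⟨e, b⟩ ⟨e', b'⟩ hee
    have he : e = e' := by
      obtain ⟨q, hq⟩ := QuotientGroup.mk_surjective (θ (e, b)).1
      exact Subtype.ext (Subtype.ext ((hsqval (e, b) q hq.symm).symm.trans
        (hsqval (e', b') q ((congrArg Subtype.val hee).symm.trans hq.symm))))
    subst he
    have hne : ((pick e : Q) : G)⁻¹ * (a * (pick e : G) * a⁻¹) ∉ E := by
      intro hmem
      -- a fixed class contains a fixed element
      refine absurd ?_ e.2
      have hcom : Commute a (pick e : G) :=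
        commute_of_sq_commutator (hodd.of_dvd_nat (Subgroup.orderOf_dvd_natCard A ha))
          (hS.two _ hmem) (haE _ hmem)
      exact Subtype.ext (by rw [← hpick e]; exact hS.two _ (hafix _ (pick e).2 hcom))
    have hb : b = b' := by
      by_contra hbb
      have h1 := congrArg Subtype.val hee
      cases b <;> cases b' <;> simp only [θ, ↓reduceIte, Bool.false_eq_true] at h1
      · exact hbb rfl
      · exact hne (mem_subgroupOf.mp (QuotientGroup.eq.mp h1))
      · exact hne (mem_subgroupOf.mp (QuotientGroup.eq.mp h1.symm))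
      · exact hbb rfl
    rw [hb]
  have hle := Nat.card_le_card_of_injective θ hθ
  rw [Nat.card_prod, Nat.card_eq_fintype_card (α := Bool), Fintype.card_bool] at hle
  have hcE : Nat.card {e : E // e ≠ 1} + 1 = Nat.card E := by
    rw [← Finite.card_option, Nat.card_congr (Equiv.optionSubtypeNe (1 : E))]
  have hcQ : Nat.card {z : Q ⧸ E.subgroupOf Q // z ≠ 1} + 1 = Nat.card (Q ⧸ E.subgroupOf Q) := by
    rw [← Finite.card_option, Nat.card_congr (Equiv.optionSubtypeNe (1 : Q ⧸ E.subgroupOf Q))]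
  have hidx : Nat.card (Q ⧸ E.subgroupOf Q) = Nat.card E := by
    have h1 := Subgroup.card_eq_card_quotient_mul_card_subgroup (E.subgroupOf Q)
    rw [Nat.card_congr (Subgroup.subgroupOfEquivOfLe hl.E_le).toEquiv, hQ, pow_two] at h1
    exact (Nat.eq_of_mul_eq_mul_right Nat.card_pos h1).symm
  omega

/-- **Lines without translations** from the case `Q = E`. -/
theorem noTranslationStep_of_eq (h : Crit G Ω D)
    (hself : RankOnePairs (G := G) Ω → ∀ (u : G) (x : Ω) (E : Subgroup G), Line2 D u x E E →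
      Nat.card E = 8 → ¬ HasTranslation u x E → u ∉ commutator G) :
    H6.Asch.NoTranslationStep Ω D := by
  intro hP u x E Q hl hno
  have h8 : Nat.card E = 8 := (H51.Asch.hasTranslation_or_eight h hl hP).resolve_left hno
  rcases hl.card_cases with e | e | e
  · obtain rfl := eq_of_le_of_card_ge hl.E_le e.le
    exact hself hP u x E hl h8 hno
  · obtain ⟨-, ⟨p, q, hpq, hp, hq⟩, -⟩ := id hl.bad
    obtain ⟨y, hyx, hy⟩ : ∃ y, y ≠ x ∧ u • y = y := by
      by_cases hpx : p = x
      · exact ⟨q, fun e => hpq (hpx.trans e.symm), hq⟩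
      · exact ⟨p, hpx, hp⟩
    exact (false_of_suzuki_eight h hP hl (squaring_of_card_sq h hl hy hyx e) h8
      (by rw [e, h8]; norm_num) hno).elim
  · exact (H51.Asch.false_of_unitary_eight h hP hl h8 (by rw [e, h8]; norm_num) hno).elim

end Cfsg.Agent.H73.Asch
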