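import Cfsg.Agent.H73.Asch.EightResidue
import Cfsg.Agent.H6.Asch.Final
import Cfsg.Agent.H6.Asch.ShapeThree

/-!
The criterion, without hypotheses: a bad involution does not exist.
-/

set_option autoImplicit false

namespace Cfsg.Agent.H73.Asch

open Cfsg.Agent.H14.Asch (Crit)

universe u

/-- **The criterion.** -/
theorem coreHolds : H1.Asch.Red.Core.{u} :=
  H6.Asch.core_of_three fun {_} _ _ {_} _ _ _ h' =>
    ⟨eqResidueStep h', eqNoTranslationStep h', H6.Asch.shapeThreeChain h'⟩

end Cfsg.Agent.H73.Asch
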