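import Cfsg.Agent.H14.Asch.Count

/-!
The data of a line of rank two in the strong embedding criterion (notes/aschbacher.md, section 1).
-/

set_option autoImplicit false

namespace Cfsg.Agent.H73.Asch

open Subgroup MulAction
open Cfsg.Agent.H14.Asch
open scoped commutatorElement

universe u v

variable {G : Type u} [Group G] {Ω : Type v} [MulAction G Ω]

/-- `u` is an involution with two fixed points which centralises two commuting members. -/
def RankTwoBad (Ω : Type v) [MulAction G Ω] (D : Set G) (u : G) : Prop :=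
  orderOf u = 2 ∧ (∃ x y : Ω, x ≠ y ∧ u • x = x ∧ u • y = y) ∧
    ∃ a ∈ D, ∃ b ∈ D, a ≠ b ∧ Commute a b ∧ Commute a u ∧ Commute b u

/-- The line of `u` at its fixed point `x`: `E` consists of `1` and the members at `x` commuting
with `u`, and `Q` is a `2`-group, regular on the other fixed points of `u`, with involutions
`E#`. -/
structure Line (D : Set G) (u : G) (x : Ω) (E Q : Subgroup G) : Prop where
  bad : RankTwoBad Ω D u
  fix : u • x = x
  mem_E : ∀ g : G, g ∈ E ↔ g = 1 ∨ g ∈ commSwap D u x x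
  four_le : 4 ≤ Nat.card E
  E_le : E ≤ Q
  Q_le : Q ≤ lineGroup D u ⊓ stabilizer G x
  isPGroup : IsPGroup 2 Q
  central : ∀ e ∈ E, ∀ g ∈ Q, Commute e g
  omega : ∀ g ∈ Q, orderOf g = 2 → g ∈ E
  sq_mem : ∀ g ∈ Q, g * g ∈ E
  comm_mem : ∀ g ∈ Q, ∀ k ∈ Q, ⁅g, k⁆ ∈ E
  trans : ∀ y z : Ω, u • y = y → u • z = z → y ≠ x → z ≠ x → ∃ g ∈ Q, g • y = z
  free : ∀ g ∈ Q, ∀ y : Ω, u • y = y → y ≠ x → g • y = y → g = 1
  normal : ∀ g : G, Commute g u → g • x = x → ∀ k ∈ Q, g * k * g⁻¹ ∈ Q
  card_cases : Nat.card Q = Nat.card E ∨ Nat.card Q = Nat.card E ^ 2 ∨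
    Nat.card Q = Nat.card E ^ 3
  card_four : Nat.card E = 4 → Nat.card Q ≠ 16
  torus : ∀ y : Ω, u • y = y → y ≠ x → ∃ K : Subgroup G,
    K ≤ lineGroup D u ⊓ pairCore G x y ∧ IsCyclic K ∧ Nat.card K + 1 = Nat.card E ∧
    (∀ a ∈ E, ∀ b ∈ E, a ≠ 1 → b ≠ 1 → ∃ k ∈ K, k * a * k⁻¹ = b) ∧
    ∀ k ∈ K, k ≠ 1 → ∀ g ∈ Q, Commute k g → g = 1
  kernel : ∀ g ∈ lineGroup D u, (∀ z : Ω, u • z = z → g • z = z) →
    ∀ d ∈ D, Commute d u → Commute d g

/-- Every line of rank two has the data `Line` at each of its points. -/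
def HasLines (Ω : Type v) [MulAction G Ω] (D : Set G) : Prop :=
  ∀ (u : G) (x : Ω), RankTwoBad Ω D u → u • x = x → ∃ E Q : Subgroup G, Line D u x E Q

/-- The kernel lemma: members at one point commuting with a bad involution of rank two commute
with each other. -/
def PointCommute (Ω : Type v) [MulAction G Ω] (D : Set G) : Prop :=
  ∀ (u : G) (x : Ω), RankTwoBad Ω D u → u • x = x →
    ∀ a ∈ commSwap D u x x, ∀ b ∈ commSwap D u x x, Commute a b

/-- The criterion: no involution of `closure D` fixes two points. -/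
def NoBad (Ω : Type v) [MulAction G Ω] (D : Set G) : Prop :=
  ∀ u ∈ closure D, orderOf u = 2 → ∀ x y : Ω, u • x = x → u • y = y → x = y

/-- The members at each point generate an elementary abelian group of members. -/
def MembersCommute (Ω : Type v) [MulAction G Ω] (D : Set G) : Prop :=
  ∀ x : Ω, ∀ a ∈ D, ∀ b ∈ D, a • x = x → b • x = x → Commute a b

end Cfsg.Agent.H73.Asch
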