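import Cfsg.Agent.H73.Asch.Line

/-!
The data of a line of rank two without assuming that the members at a point commute
(notes/aschbacher.md v3): `E` is a lift of the image of the members.
-/

set_option autoImplicit false

namespace Cfsg.Agent.H73.Asch

open Subgroup MulAction
open Cfsg.Agent.H14.Asch
open scoped commutatorElement Pointwise

universe u v

variable {G : Type u} [Group G] {Ω : Type v} [MulAction G Ω]

/-- The three shapes of a line: `Q = E`; squaring injective on `Q / E` with all commutator maps of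
rank at least two; or an odd element centralising `E` with centraliser `E` in `Q`. -/
def LineShape (A E Q : Subgroup G) : Prop :=
  Q = E ∨
    ((∀ g ∈ Q, ∀ k ∈ Q, g * g = k * k → g * k⁻¹ ∈ E) ∧
      ∀ g ∈ Q, g ∉ E → ∃ k ∈ Q, ∃ l ∈ Q, ⁅g, k⁆ ≠ 1 ∧ ⁅g, l⁆ ≠ 1 ∧ ⁅g, k⁆ ≠ ⁅g, l⁆) ∨
    ∃ a ∈ A, (∀ e ∈ E, Commute a e) ∧ ∀ g ∈ Q, Commute a g → g ∈ E

/-- The line of `u` at its fixed point `x`: `Q` is a Sylow 2-subgroup of the point stabiliser of
`lineGroup D u`, regular on the other fixed points of `u`, and `E` consists of `1` and its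
involutions, all of them members. -/
structure Line2 (D : Set G) (u : G) (x : Ω) (E Q : Subgroup G) : Prop where
  bad : RankTwoBad Ω D u
  fix : u • x = x
  mem_E : ∀ g ∈ E, g = 1 ∨ g ∈ commSwap D u x x
  four_le : 4 ≤ Nat.card E
  E_le : E ≤ Q
  Q_le : Q ≤ lineGroup D u ⊓ stabilizer G x
  isPGroup : IsPGroup 2 Q
  sylow : ∀ P : Subgroup G, IsPGroup 2 P → P ≤ lineGroup D u ⊓ stabilizer G x →
    ∃ g ∈ lineGroup D u ⊓ stabilizer G x, P ≤ MulAut.conj g • Q
  central : ∀ e ∈ E, ∀ g ∈ Q, Commute e g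
  omega : ∀ g ∈ Q, orderOf g = 2 → g ∈ E
  sq_mem : ∀ g ∈ Q, g * g ∈ E
  comm_mem : ∀ g ∈ Q, ∀ k ∈ Q, ⁅g, k⁆ ∈ E
  trans : ∀ y z : Ω, u • y = y → u • z = z → y ≠ x → z ≠ x → ∃ g ∈ Q, g • y = z
  free : ∀ g ∈ Q, ∀ y : Ω, u • y = y → y ≠ x → g • y = y → g = 1
  card_cases : Nat.card Q = Nat.card E ∨ Nat.card Q = Nat.card E ^ 2 ∨
    Nat.card Q = Nat.card E ^ 3
  card_four : Nat.card E = 4 → Nat.card Q ≠ 16
  torus : ∀ y : Ω, u • y = y → y ≠ x → ∀ T : Subgroup G, IsPGroup 2 T →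
    T ≤ pairStab G x y ⊓ centralizer ({u} : Set G) → (∀ e ∈ E, ∀ t ∈ T, Commute e t) →
    T ≤ normalizer (Q : Set G) →
    ∃ A : Subgroup G, A ≤ lineGroup D u ⊓ pairStab G x y ∧ Odd (Nat.card A) ∧
      A ≤ normalizer (Q : Set G) ∧ IsCyclic A ∧ (∀ a ∈ E, ∀ b ∈ E, a ≠ 1 → b ≠ 1 → ∃ k ∈ A, k * a * k⁻¹ = b) ∧
      T ≤ normalizer ((A ⊓ centralizer (E : Set G) : Subgroup G) : Set G) ∧
      LineShape A E Q
  /-- The two-point stabiliser of the line acts on `E` as an abelian group, the torus. -/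
  torus_image : ∀ y : Ω, u • y = y → y ≠ x →
    ∀ g ∈ lineGroup D u ⊓ pairStab G x y ⊓ normalizer (E : Set G),
      ∀ k ∈ lineGroup D u ⊓ pairStab G x y ⊓ normalizer (E : Set G),
        ∀ e ∈ E, Commute ⁅g, k⁆ e

/-- Every line of rank two has the data `Line2` at each of its points, with `Q` containing a given
2-group of `lineGroup D u` at the point. -/
def HasLines2 (Ω : Type v) [MulAction G Ω] (D : Set G) : Prop :=
  ∀ (u : G) (x : Ω), RankTwoBad Ω D u → u • x = x → ∃ E Q : Subgroup G, Line2 D u x E Q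

/-- The rank theorem: two commuting involutions with two common fixed points are equal. -/
def RankOnePairs (Ω : Type v) [MulAction G Ω] : Prop :=
  ∀ (u w : G) (x y : Ω), orderOf u = 2 → orderOf w = 2 → Commute u w → x ≠ y →
    u • x = x → u • y = y → w • x = x → w • y = y → u = w

end Cfsg.Agent.H73.Asch
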