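import Cfsg.Agent.H73.Asch.Line

/-!
The criterion passes to the group generated by the members.
-/

set_option autoImplicit false
set_option linter.style.haveILetI false

namespace Cfsg.Agent.H73.Asch

open Subgroup MulAction
open Cfsg.Agent.H14.Asch
open Cfsg.Agent.H73.Bender (SE)

universe u v

variable {G : Type u} [Group G] [Finite G] {Ω : Type v} [MulAction G Ω] [Finite Ω] {D : Set G}

/-- The members, as elements of the group they generate. -/
def liftSet (D : Set G) : Set ↥(closure D) := {d | (d : G) ∈ D}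

theorem map_subtype_closure_liftSet (D : Set G) :
    (closure (liftSet D)).map (closure D).subtype = closure D := by
  rw [MonoidHom.map_closure]
  congr 1
  ext d
  exact ⟨fun ⟨e, he, hed⟩ => hed ▸ he, fun hd => ⟨⟨d, subset_closure hd⟩, hd, rfl⟩⟩

theorem closure_liftSet (D : Set G) : closure (liftSet D) = ⊤ := by
  refine Subgroup.map_injective (Subgroup.subtype_injective (closure D)) ?_
  rw [map_subtype_closure_liftSet, ← MonoidHom.range_eq_map, Subgroup.range_subtype]

omit [Finite G] in
theorem map_lineGroup_liftSet (D : Set G) (w : ↥(closure D)) :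
    (lineGroup (liftSet D) w).map (closure D).subtype = lineGroup D (w : G) := by
  rw [lineGroup, lineGroup, MonoidHom.map_closure]
  congr 1
  ext d
  constructor
  · rintro ⟨e, ⟨he, hec⟩, rfl⟩
    refine ⟨he, mem_centralizer_singleton_iff.mpr ?_⟩
    exact congrArg Subtype.val (mem_centralizer_singleton_iff.mp hec)
  · rintro ⟨hd, hdc⟩
    exact ⟨⟨d, subset_closure hd⟩, ⟨hd, mem_centralizer_singleton_iff.mpr
      (Subtype.ext (mem_centralizer_singleton_iff.mp hdc))⟩, rfl⟩

/-- A strongly embedded action of a subgroup, read in a subgroup containing it. -/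
theorem se_of_map {M : Subgroup G} {S : Subgroup M} {C : Set Ω} (h : SE (S.map M.subtype) C) :
    SE S C where
  smul_mem hg _ hx := h.smul_mem (mem_map_of_mem _ hg) hx
  trans hx hy := by
    obtain ⟨_, ⟨g, hg, rfl⟩, hgx⟩ := h.trans hx hy
    exact ⟨g, hg, hgx⟩
  exists_fix {t} ht ht2 := h.exists_fix (mem_map_of_mem _ ht)
    ((Subgroup.orderOf_coe t).trans ht2)
  fix_unique {t} ht ht2 {_ _} hx hy htx hty := h.fix_unique (mem_map_of_mem _ ht)
    ((Subgroup.orderOf_coe t).trans ht2) hx hy htx hty
  exists_ne := h.exists_ne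
  exists_inv := by
    obtain ⟨_, ⟨t, ht, rfl⟩, ht2⟩ := h.exists_inv
    exact ⟨t, ht, by rwa [Subgroup.coe_subtype, Subgroup.orderOf_coe] at ht2⟩

/-- Two members are conjugate in the group generated by the members. -/
theorem exists_conj_mem_closure (h : Crit G Ω D) {d e : G} (hd : d ∈ D) (he : e ∈ D) :
    ∃ g ∈ closure D, g * d * g⁻¹ = e := by
  obtain ⟨p, hp, -⟩ := h.unique hd
  obtain ⟨q, hq, -⟩ := h.unique he
  by_cases hpq : p = q
  · obtain ⟨a, b, hab⟩ := h.exists_ne
    obtain ⟨r, hr⟩ : ∃ r, r ≠ p := by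
      by_cases hap : a = p
      · exact ⟨b, fun hbp => hab (hap.trans hbp.symm)⟩
      · exact ⟨a, hap⟩
    obtain ⟨c, hc, hcr⟩ := h.exists_at r
    obtain ⟨w, hw, hwc⟩ := h.exists_swapper hd hc hp hcr hr.symm
    obtain ⟨w', hw', hwe⟩ := h.exists_swapper hc he hcr hq (hpq ▸ hr)
    refine ⟨w' * w, mul_mem (subset_closure hw'.1) (subset_closure hw.1), ?_⟩
    rw [← hwe, ← hwc]
    group
  · obtain ⟨w, hw, hwc⟩ := h.exists_swapper hd he hp hq hpq
    exact ⟨w, subset_closure hw.1, hwc⟩

/-- The criterion holds in the group generated by the members. -/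
theorem crit_liftSet (h : Crit G Ω D) : Crit ↥(closure D) Ω (liftSet D) where
  conj_mem hd g := h.conj_mem hd g
  isConj {d e} hd he := by
    obtain ⟨g, hg, hgd⟩ := exists_conj_mem_closure h hd he
    exact ⟨⟨g, hg⟩, Subtype.ext hgd⟩
  nonempty := by
    obtain ⟨d, hd⟩ := h.nonempty
    exact ⟨⟨d, subset_closure hd⟩, hd⟩
  inv {d} hd := by rw [← Subgroup.orderOf_coe]; exact h.inv hd
  unique hd := h.unique hd
  comm {t p} ht hp := by
    obtain ⟨d, hd, hdp, hdt⟩ := h.comm (t := (t : G)) (by rwa [Subgroup.orderOf_coe]) hp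
    exact ⟨⟨d, subset_closure hd⟩, hd, hdp, Subtype.ext hdt.eq⟩
  trans := by
    refine ⟨fun x y => ?_⟩
    obtain ⟨d, hd⟩ := h.exists_mem_swappers x y
    exact ⟨⟨d, subset_closure hd.1⟩, hd.2⟩
  faithful := by
    haveI := h.faithful
    exact ⟨fun {a b} hab => Subtype.ext (FaithfulSMul.eq_of_smul_eq_smul (α := Ω) hab)⟩
  exists_ne := h.exists_ne
  line {w x y} hw hxy hx hy := by
    refine se_of_map ?_
    rw [map_lineGroup_liftSet]
    exact h.line (by rwa [Subgroup.orderOf_coe]) hxy hx hy

/-- It suffices to prove the criterion for groups generated by the members. -/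
theorem noBad_of_generated (h : Crit G Ω D)
    (hgen : closure (liftSet D) = ⊤ → NoBad Ω (liftSet D)) : NoBad Ω D := by
  intro w hw hw2 x y hx hy
  exact hgen (closure_liftSet D) ⟨w, hw⟩ (by rw [closure_liftSet]; exact mem_top _)
    (by rw [← Subgroup.orderOf_coe]; exact hw2) x y hx hy

end Cfsg.Agent.H73.Asch
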