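import Cfsg.Agent.H74.Asch.EightMain
import Cfsg.Agent.H72.Asch.ResidueSmall
import Cfsg.Agent.H1.Asch.Fusion
import Cfsg.Agent.H6.Asch.Final

/-!
A line with `Q = E` of order eight: the residue of the class analysis, or the absence of
translations, keeps `u` outside the commutator subgroup, by the kill `H74.Asch.EightData`.
-/

set_option autoImplicit false
set_option linter.style.haveILetI false
set_option linter.unusedSectionVars false

namespace Cfsg.Agent.H73.Asch

open Subgroup MulAction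
open Cfsg.Agent.H14.Asch
open Cfsg.Agent.H39 (mul_self_of_orderOf_eq_two mem_normalizer_of_conj_mem)
open Cfsg.Agent.H6.Asch (normAt centAt)
open Cfsg.Agent.H26.Asch (classGroup ClassResidue mem_centAt')
open Cfsg.Agent.H51.Asch (coreStab mem_coreStab conj_mem_coreStab MaxTwo exists_maxTwo_ge
  HasTranslation exists_conj_eq_mul exists_maxTwo_commute_ge mem_sup_zpowers_involution)
open scoped commutatorElement Pointwise

universe u v

variable {G : Type u} [Group G] [Finite G] {Ω : Type v} [MulAction G Ω] [Finite Ω] {D : Set G}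
  {u : G} {x y : Ω} {E : Subgroup G}

section

variable (h : Crit G Ω D) (hl : Line2 D u x E E)
include h hl

theorem eight_mem_sup {g : G} : g ∈ E ⊔ zpowers u ↔ g ∈ E ∨ g * u ∈ E :=
  mem_sup_zpowers_involution (mul_self_of_orderOf_eq_two hl.bad.1) fun _ hk => line2_commute hl hk

theorem eight_u_notMem : u ∉ E := fun hu => by
  have hD := (line2_member hl hu (H39.ne_one_of_orderOf_eq_two hl.bad.1)).1
  obtain ⟨-, ⟨a, b, hab, ha, hb⟩, -⟩ := hl.bad
  exact hab ((h.unique hD).unique ha hb)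

theorem eight_card_sup (h8 : Nat.card E = 8) : Nat.card (E ⊔ zpowers u : Subgroup G) = 16 := by
  classical
  have huu := mul_self_of_orderOf_eq_two hl.bad.1
  let f : E × Bool → (E ⊔ zpowers u : Subgroup G) := fun p =>
    ⟨if p.2 then (p.1 : G) * u else p.1, by
      split_ifs
      · exact mul_mem (mem_sup_left p.1.2) (mem_sup_right (mem_zpowers u))
      · exact mem_sup_left p.1.2⟩
  have hf : Function.Bijective f := by
    constructor
    · rintro ⟨e, _ | _⟩ ⟨e', _ | _⟩ h' <;> simp [f] at h'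
      · exact Prod.ext h' rfl
      · exact absurd (by rw [show u = (e' : G)⁻¹ * e by rw [h', inv_mul_cancel_left]]
                         exact E.mul_mem (E.inv_mem e'.2) e.2) (eight_u_notMem h hl)
      · exact absurd (by rw [show u = (e : G)⁻¹ * e' by rw [← h', inv_mul_cancel_left]]
                         exact E.mul_mem (E.inv_mem e.2) e'.2) (eight_u_notMem h hl)
      · exact Prod.ext h' rfl
    · rintro ⟨g, hg⟩
      rcases (eight_mem_sup h hl).mp hg with h1 | h1
      · exact ⟨(⟨g, h1⟩, false), rfl⟩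
      · refine ⟨(⟨g * u, h1⟩, true), Subtype.ext ?_⟩
        simp [f, mul_assoc, huu]
  rw [← Nat.card_eq_of_bijective f hf, Nat.card_prod, h8, Nat.card_eq_fintype_card (α := Bool),
    Fintype.card_bool]

/-- An element normalising a group of 2-elements centralising `u` at `x` has conjugates of `u` in
every coset in `u E`, once `u` has all of `u E` as conjugates at `x`. -/
theorem eight_exists_norm (hP : RankOnePairs (G := G) Ω) (hno : ¬ HasTranslation u x E)
    {P : Subgroup G} (hmax : MaxTwo (coreStab x E) P) (hEP : E ≤ P) (huP : u ∈ P)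
    (hPu : ∀ t ∈ P, Commute t u) {e : G} (he : e ∈ E) :
    ∃ n ∈ normAt x E, n ∈ normalizer (P : Set G) ∧ n * u * n⁻¹ = u * e := by
  have hPx : ∀ t ∈ P, t • x = x := fun t ht => (mem_coreStab.mp (hmax.2.1 ht)).1
  obtain ⟨g, hg, hgu⟩ := exists_conj_eq_mul h hl he
  obtain ⟨hgx, hgE⟩ := mem_inf.mp hg
  have hgK : g ∈ normalizer (coreStab x E : Set G) := mem_normalizer_of_conj_mem fun k hk =>
    conj_mem_coreStab (mem_stabilizer_iff.mp hgx) hgE hk
  obtain ⟨k, hk, hkP⟩ := (hmax.map_conj hgK).exists_conj hmax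
  have hkN : k * g ∈ normalizer (P : Set G) := mem_normalizer_of_conj_mem fun t ht => by
    have h1 := (hkP (g * t * g⁻¹)).mp ⟨t, ht, rfl⟩
    convert h1 using 1
    group
  obtain ⟨e', he', hne'⟩ := H51.Asch.exists_eq_mul_of_normalizer h hl hP hmax.1
    (fun t ht => ⟨hPx t ht, hPu t ht⟩) hEP huP hkN
  refine ⟨k * g, mem_inf.mpr ⟨mul_mem (mem_inf.mp hk).1 hgx,
    mul_mem (centralizer_le_normalizer _ (mem_inf.mp hk).2) hgE⟩, hkN, ?_⟩
  have h2 : k * u * k⁻¹ * e = u * e' := by
    rw [← hne', show k * g * u * (k * g)⁻¹ = k * (g * u * g⁻¹) * k⁻¹ by group, hgu,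
      show k * (u * e) * k⁻¹ = k * u * k⁻¹ * (k * e * k⁻¹) by group,
      ← ((mem_coreStab.mp hk).2 e he).eq, mul_inv_cancel_right]
  by_cases hee : e' * e⁻¹ = 1
  · rw [hne', mul_inv_eq_one.mp hee]
  · exfalso
    refine hno ⟨k, hk, _, mul_mem he' (inv_mem he), hee, ?_⟩
    rw [← mul_assoc, ← h2, mul_inv_cancel_right]

/-- `E⟨u⟩` is a maximal 2-subgroup of `C(u) ∩ C(E)` at `x`. -/
theorem eight_maxTwo (hP : RankOnePairs (G := G) Ω) (hy : u • y = y) (hyx : y ≠ x) :
    MaxTwo (coreStab x E ⊓ centralizer ({u} : Set G)) (E ⊔ zpowers u) := by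
  classical
  haveI : Fact (Nat.Prime 2) := ⟨Nat.prime_two⟩
  by_cases hT : HasTranslation u x E
  · exact H29.Asch.maxTwo_base h hP hl hT hy hyx
  have hu2 := hl.bad.1
  have huu := mul_self_of_orderOf_eq_two hu2
  set Kc := coreStab x E ⊓ centralizer ({u} : Set G) with hKc
  obtain ⟨P, hEP', hmax, hEP, huP, hPu⟩ := exists_maxTwo_commute_ge h hl hP hT hl.isPGroup
    (fun g hg => mem_inf.mpr ⟨mem_coreStab.mpr ⟨line2_smul hl hg, fun e he => hl.central e he g hg⟩,
      mem_centralizer_singleton_iff.mpr (line2_commute hl hg).eq⟩)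
  have hPx : ∀ t ∈ P, t • x = x := fun t ht => (mem_coreStab.mp (hmax.2.1 ht)).1
  have hPsup : P ≤ E ⊔ zpowers u := by
    intro g hg
    have hgy : u • g • y = g • y := smul_fixed_of_commute (hPu g hg) hy
    have hgx : g • y ≠ x := fun e => hyx (MulAction.injective g (e.trans (hPx g hg).symm))
    obtain ⟨q, hq, hqy⟩ := hl.trans y (g • y) hy hgy hyx hgx
    set t := q⁻¹ * g with ht
    have htP : t ∈ P := P.mul_mem (P.inv_mem (hEP hq)) hg
    have hty : t • y = y := by rw [ht, mul_smul, ← hqy, inv_smul_smul]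
    suffices htu : t = 1 ∨ t = u by
      rw [show g = q * t by rw [ht, mul_inv_cancel_left]]
      rcases htu with e | e <;> rw [e]
      · rw [mul_one]; exact mem_sup_left hq
      · exact mul_mem (mem_sup_left hq) (mem_sup_right (mem_zpowers u))
    have hinv : ∀ w ∈ P, w • y = y → w * w = 1 → w ≠ 1 → u = w := fun w hw hwy hww hw1 =>
      hP u w x y hu2 (orderOf_eq_prime (by rw [pow_two]; exact hww) hw1) (hPu w hw).symm
        (Ne.symm hyx) hl.fix hy (hPx w hw) hwy
    obtain ⟨k, hk⟩ := hmax.1 ⟨t, htP⟩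
    have hk' : t ^ (2 ^ k) = 1 := congrArg Subtype.val hk
    clear_value t
    clear ht hk
    induction k generalizing t with
    | zero => rw [pow_zero, pow_one] at hk'; exact Or.inl hk'
    | succ k ih =>
      have h2 := ih (t * t) (P.mul_mem htP htP) (by rw [mul_smul, hty, hty])
        (by rw [← pow_two, ← pow_mul, ← pow_succ']; exact hk')
      rcases h2 with h2 | h2
      · by_cases ht1 : t = 1
        · exact Or.inl ht1
        · exact Or.inr (hinv t htP hty h2 ht1).symm
      · exfalso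
        -- `u` would be a square in `P`, so all of `u E` squares fixing `y`
        obtain ⟨e, he, he1⟩ : ∃ e ∈ E, e ≠ 1 := by
          obtain ⟨b, hb, hb1, -⟩ := line2_exists_ne hl (a := (1 : G))
          exact ⟨b, hb, hb1⟩
        obtain ⟨n, hn, hnP, hnu⟩ := eight_exists_norm h hl hP hT hmax hEP huP hPu he
        have hs : n * t * n⁻¹ ∈ P := (mem_normalizer_iff.mp hnP t).mp htP
        have hsy : u • (n * t * n⁻¹) • y = (n * t * n⁻¹) • y :=
          smul_fixed_of_commute (hPu _ hs) hy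
        have hsx : (n * t * n⁻¹) • y ≠ x := fun e' =>
          hyx (MulAction.injective (n * t * n⁻¹) (e'.trans (hPx _ hs).symm))
        obtain ⟨q', hq', hqy'⟩ := hl.trans y _ hy hsy hyx hsx
        have hfix : (n * t * n⁻¹ * (n * t * n⁻¹)) • y = y := by
          have hc : Commute q' (n * t * n⁻¹) := (mem_coreStab.mp (hmax.2.1 hs)).2 q' hq'
          rw [mul_smul, ← hqy', ← mul_smul, ← hc.eq, mul_smul, ← hqy', ← mul_smul,
            line2_mul_self hl h hq', one_smul]
        rw [show n * t * n⁻¹ * (n * t * n⁻¹) = n * (t * t) * n⁻¹ by group, h2, hnu,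
          ← (line2_commute hl he).eq, mul_smul, hy] at hfix
        exact he1 (hl.free e he y hy hyx hfix)
  have hPKc : P ≤ Kc := fun t ht =>
    mem_inf.mpr ⟨hmax.2.1 ht, mem_centralizer_singleton_iff.mpr (hPu t ht).eq⟩
  have hPeq : P = E ⊔ zpowers u := le_antisymm hPsup (sup_le hEP (zpowers_le.mpr huP))
  rw [← hPeq]
  exact ⟨hmax.1, hPKc, fun P' h1 h2 h3 => hmax.2.2 P' h1 (h2.trans inf_le_left) h3⟩

/-- **Two-groups at `x` centralising `u`**: at most sixteen elements, all of order at most two. -/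
theorem eight_small (hP : RankOnePairs (G := G) Ω) (h8 : Nat.card E = 8) (hy : u • y = y)
    (hyx : y ≠ x) {W : Subgroup G} (hW : IsPGroup 2 W) (hWx : ∀ g ∈ W, g • x = x)
    (hWu : ∀ g ∈ W, Commute g u) :
    Nat.card W ≤ 16 ∧ (∀ a ∈ W, ∀ b ∈ W, Commute a b) ∧ ∀ a ∈ W, a * a = 1 := by
  classical
  haveI : Fact (Nat.Prime 2) := ⟨Nat.prime_two⟩
  have hS := H29.Asch.special_of_line2 h hl
  have hu2 : orderOf u = 2 := hl.bad.1
  have huu := mul_self_of_orderOf_eq_two hu2
  set B : Subgroup G := stabilizer G x ⊓ centralizer ({u} : Set G) with hB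
  have hmemB : ∀ {g : G}, g • x = x → Commute g u → g ∈ B := fun hgx hgu =>
    mem_inf.mpr ⟨mem_stabilizer_iff.mpr hgx, mem_centralizer_singleton_iff.mpr hgu.eq⟩
  have hbase := eight_maxTwo h hl hP hy hyx
  obtain ⟨P, hQP, hmax⟩ := exists_maxTwo_ge hbase.1 (K := B) (sup_le
    (fun g hg => hmemB (line2_smul hl hg) (line2_commute hl hg))
    (zpowers_le.mpr (hmemB hl.fix (Commute.refl u))))
  have hPB : ∀ {g}, g ∈ P → g • x = x ∧ Commute g u := fun hg =>
    ⟨mem_stabilizer_iff.mp (mem_inf.mp (hmax.2.1 hg)).1,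
      mem_centralizer_singleton_iff.mp (mem_inf.mp (hmax.2.1 hg)).2⟩
  -- `P` normalises `E`
  have hPL : P ⊓ lineGroup D u = E := by
    refine (eq_of_le_of_card_ge (le_inf (le_sup_left.trans hQP)
      fun g hg => (mem_inf.mp (hl.Q_le hg)).1) ?_).symm
    obtain ⟨g, -, hle⟩ := hl.sylow (P ⊓ lineGroup D u) (hmax.1.to_le inf_le_left) fun t ht =>
      mem_inf.mpr ⟨(mem_inf.mp ht).2, mem_stabilizer_iff.mpr (hPB (mem_inf.mp ht).1).1⟩
    exact (card_le_of_le hle).trans
      (Nat.card_congr (Subgroup.equivSMul (MulAut.conj g) E).toEquiv).symm.le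
  have hPE : ∀ t ∈ P, t ∈ normalizer (E : Set G) := fun t ht =>
    mem_normalizer_of_conj_mem fun g hg => by
      rw [← hPL] at hg ⊢
      obtain ⟨hgP, hgL⟩ := mem_inf.mp hg
      exact mem_inf.mpr ⟨mul_mem (mul_mem ht hgP) (inv_mem ht),
        (mem_inf.mp (H29.Asch.conj_lineGroup_stab h (hPB ht).2 (hPB ht).1
          (mem_inf.mpr ⟨hgL, mem_stabilizer_iff.mpr (hPB hgP).1⟩))).1⟩
  -- a torus of the line
  obtain ⟨A, hA, -, hAE, hcyc, htr, -, -⟩ := hl.torus y hy hyx (zpowers u)
    (IsPGroup.of_card (n := 1) (by rw [Nat.card_zpowers, hu2]; rfl))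
    (zpowers_le.mpr (mem_inf.mpr ⟨mem_pairStab.mpr ⟨hl.fix, hy⟩,
      mem_centralizer_singleton_iff.mpr rfl⟩))
    (fun e he g hg => by
      obtain ⟨i, rfl⟩ := mem_zpowers_iff.mp hg
      exact (line2_commute hl he).zpow_right i)
    (zpowers_le.mpr (mem_normalizer_of_conj_mem fun q hq => by
      rwa [← (line2_commute hl hq).eq, mul_inv_cancel_right]))
  have hAc : ∀ z ∈ A, ∀ z' ∈ A, Commute z z' := fun z hz z' hz' => by
    letI : CommGroup A := hcyc.commGroup
    exact congrArg Subtype.val (mul_comm (⟨z, hz⟩ : A) ⟨z', hz'⟩)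
  set L := lineGroup D u ⊓ pairStab G x y ⊓ normalizer (E : Set G) with hL
  have hAL : A ≤ L := le_inf hA hAE
  obtain ⟨e₀, he₀, he₀1, -⟩ := line2_exists_ne hl (a := (1 : G))
  have hLA : ∀ m ∈ L, ∃ z ∈ A, ∀ e ∈ E, m * e * m⁻¹ = z * e * z⁻¹ := by
    intro m hm
    have hmE : m * e₀ * m⁻¹ ∈ E := (mem_normalizer_iff.mp (mem_inf.mp hm).2 e₀).mp he₀
    obtain ⟨z, hz, hze⟩ := htr e₀ he₀ _ hmE he₀1 fun e => he₀1 (conj_eq_one_iff.mp e)
    refine ⟨z, hz, fun e he => ?_⟩
    by_cases he1 : e = 1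
    · rw [he1]; group
    obtain ⟨c, hc, hce⟩ := htr e₀ he₀ e he he₀1 he1
    have hcomm : ∀ {g k f : G}, g ∈ L → k ∈ L → f ∈ E →
        g * (k * f * k⁻¹) * g⁻¹ = k * (g * f * g⁻¹) * k⁻¹ := by
      intro g k f hg hk hf
      have hf' : k * (g * f * g⁻¹) * k⁻¹ ∈ E := (mem_normalizer_iff.mp (mem_inf.mp hk).2 _).mp
        ((mem_normalizer_iff.mp (mem_inf.mp hg).2 _).mp hf)
      have h1 := hl.torus_image y hy hyx g hg k hk _ hf'
      calc g * (k * f * k⁻¹) * g⁻¹ = ⁅g, k⁆ * (k * (g * f * g⁻¹) * k⁻¹) * ⁅g, k⁆⁻¹ := by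
            rw [commutatorElement_def]; group
        _ = k * (g * f * g⁻¹) * k⁻¹ := by rw [h1.eq, mul_inv_cancel_right]
    rw [← hce, hcomm hm (hAL hc) he₀, hcomm (hAL hz) (hAL hc) he₀, hze]
  -- `P` centralises `E`
  have hstep : ∀ t ∈ P, (∀ e ∈ E, t * t * e * (t * t)⁻¹ = e) → ∀ e ∈ E, t * e * t⁻¹ = e := by
    intro t ht htt
    refine H72.Asch.fixes_of_norm_torus (A := A) (fun e he => hS.two e he) h8 hAE hAc htr
      (hPE t ht) (fun e he => ?_) fun z hz => ?_
    · rw [show t * (t * e * t⁻¹) * t⁻¹ = t * t * e * (t * t)⁻¹ by group, htt e he]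
    have hty : u • t • y = t • y := smul_fixed_of_commute (hPB ht).2 hy
    have htyx : t • y ≠ x := fun e => hyx (MulAction.injective t (e.trans (hPB ht).1.symm))
    obtain ⟨q, hq, hqy⟩ := hl.trans y (t • y) hy hty hyx htyx
    set t' := q⁻¹ * t with ht'
    have ht'y : t' • y = y := by rw [ht', mul_smul, ← hqy, inv_smul_smul]
    have ht'x : t' • x = x := by
      rw [ht', mul_smul, (hPB ht).1, inv_smul_eq_iff, line2_smul hl hq]
    have ht'u : Commute t' u := (line2_commute hl hq).inv_left.mul_left (hPB ht).2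
    have ht'E : t' ∈ normalizer (E : Set G) :=
      mul_mem (inv_mem (le_normalizer hq)) (hPE t ht)
    obtain ⟨⟨hzl, hzp⟩, hzE⟩ := mem_inf.mp (hAL hz)
    have hm : t' * z * t'⁻¹ ∈ L := by
      obtain ⟨hzx, hzy⟩ := mem_pairStab.mp hzp
      have h1 := H29.Asch.conj_lineGroup_stab h ht'u ht'x
        (mem_inf.mpr ⟨hzl, mem_stabilizer_iff.mpr hzx⟩)
      refine mem_inf.mpr ⟨mem_inf.mpr ⟨(mem_inf.mp h1).1, mem_pairStab.mpr
        ⟨mem_stabilizer_iff.mp (mem_inf.mp h1).2, ?_⟩⟩, mul_mem (mul_mem ht'E hzE) (inv_mem ht'E)⟩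
      rw [mul_smul, mul_smul, inv_smul_eq_iff.mpr ht'y.symm, hzy, ht'y]
    obtain ⟨z₁, hz₁, hz₁e⟩ := hLA _ hm
    refine ⟨z₁, hz₁, fun e he => ?_⟩
    have htfe : ∀ f ∈ E, t * f * t⁻¹ = t' * f * t'⁻¹ := by
      intro f hf
      have h1 : t' * f * t'⁻¹ ∈ E := (mem_normalizer_iff.mp ht'E f).mp hf
      calc t * f * t⁻¹ = q * (t' * f * t'⁻¹) * q⁻¹ := by rw [ht']; group
        _ = _ := by rw [← (hl.central _ h1 q hq).eq, mul_inv_cancel_right]
    rw [← hz₁e e he]
    have hti : ∀ f ∈ E, t⁻¹ * f * t = t'⁻¹ * f * t' := by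
      intro f hf
      have h1 : t'⁻¹ * f * t' ∈ E := by
        simpa using (mem_normalizer_iff.mp (inv_mem ht'E) f).mp hf
      have h2 := htfe _ h1
      rw [show t' * (t'⁻¹ * f * t') * t'⁻¹ = f by group] at h2
      calc t⁻¹ * f * t = t⁻¹ * (t * (t'⁻¹ * f * t') * t⁻¹) * t := by rw [h2]
        _ = _ := by group
    have hzf : z * (t'⁻¹ * e * t') * z⁻¹ ∈ E := (mem_normalizer_iff.mp hzE _).mp
      (by simpa using (mem_normalizer_iff.mp (inv_mem ht'E) e).mp he)
    calc t * z * t⁻¹ * e * (t * z * t⁻¹)⁻¹ = t * (z * (t⁻¹ * e * t) * z⁻¹) * t⁻¹ := by group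
      _ = t' * (z * (t'⁻¹ * e * t') * z⁻¹) * t'⁻¹ := by rw [hti e he, htfe _ hzf]
      _ = _ := by group
  have hcent : ∀ (n : ℕ) (t : G), t ∈ P → t ^ (2 ^ n) = 1 → ∀ e ∈ E, t * e * t⁻¹ = e := by
    intro n
    induction n with
    | zero =>
      intro t _ ht1 e _
      rw [pow_zero, pow_one] at ht1
      rw [ht1]; group
    | succ n ih =>
      intro t ht ht1
      refine hstep t ht (ih (t * t) (mul_mem ht ht) ?_)
      rw [← pow_two, ← pow_mul, ← pow_succ']; exact ht1
  have hPeq : P = E ⊔ zpowers u := hbase.2.2 P hmax.1 (fun t ht => by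
    obtain ⟨k, hk⟩ := hmax.1 ⟨t, ht⟩
    have hk' : t ^ (2 ^ k) = 1 := congrArg Subtype.val hk
    refine mem_inf.mpr ⟨mem_coreStab.mpr ⟨(hPB ht).1, fun e he => ?_⟩,
      mem_centralizer_singleton_iff.mpr (hPB ht).2.eq⟩
    exact ((mul_inv_eq_iff_eq_mul.mp (hcent k t ht hk' e he) : t * e = e * t)).symm) hQP
  -- conjugate `W` into `P`
  obtain ⟨c, -, hc⟩ := exists_conj_le_of_maximal hmax.1 hmax.2.1
    (fun P' h1 h2 h3 => (hmax.2.2 P' h1 h2 h3).le) hW (fun g hg => hmemB (hWx g hg) (hWu g hg))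
  rw [hPeq] at hc
  have hcases : ∀ g ∈ E ⊔ zpowers u, g * g = 1 := fun g hg => by
    rcases (eight_mem_sup h hl).mp hg with h1 | h1
    · exact hS.two g h1
    · rw [show g = g * u * u by rw [mul_assoc, huu, mul_one],
        (line2_commute hl h1).symm.mul_mul_mul_comm, hS.two _ h1, huu, one_mul]
  have hsq : ∀ a ∈ W, a * a = 1 := fun a ha => by
    have h1 := hcases _ (hc a ha)
    rw [conj_mul, conj_eq_one_iff] at h1
    exact h1
  refine ⟨?_, fun a ha b hb => ?_, hsq⟩
  · rw [← eight_card_sup h hl h8]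
    exact Nat.card_le_card_of_injective (fun a : W => (⟨_, hc a a.2⟩ : (E ⊔ zpowers u : Subgroup G)))
      fun a b e => Subtype.ext (by simpa using congrArg Subtype.val e)
  · have h1 := hsq _ (W.mul_mem ha hb)
    show a * b = b * a
    rw [← inv_eq_of_mul_eq_one_right h1, mul_inv_rev, inv_eq_of_mul_eq_one_right (hsq a ha),
      inv_eq_of_mul_eq_one_right (hsq b hb)]

/-- **The kill for `Q = E` of order eight**: a group `K ∌ u` inverted by `u`, with `R = K⟨u⟩` a
maximal 2-subgroup of `C(E)` at `x` and the elements of `K u` one class under `classGroup`. -/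
theorem eight_not_mem (hP : RankOnePairs (G := G) Ω) (h8 : Nat.card E = 8) (hy : u • y = y)
    (hyx : y ≠ x) {R K : Subgroup G} (hR2 : IsPGroup 2 R) (hRC : R ≤ centAt x E)
    (hRmax : ∀ P : Subgroup G, IsPGroup 2 P → P ≤ centAt x E → R ≤ P → P ≤ R)
    (hKR : K ≤ R) (huR : u ∈ R) (hKcases : ∀ g ∈ R, g ∈ K ∨ g * u ∈ K) (huK : u ∉ K)
    (hEK : E ≤ K) (hinv : ∀ k ∈ K, u * k * u = k⁻¹) (homega : ∀ k ∈ K, k * k = 1 → k ∈ E)
    (hroots : K = E ∨ ∀ e ∈ E, ∃ k ∈ K, k * k = e)
    (hKinv : ∀ g ∈ classGroup x E R, ∀ k ∈ K, g * k * g⁻¹ ∈ K)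
    (hclass : ∀ g ∈ classGroup x E R, g * u * g⁻¹ * u ∈ K)
    (horbit : ∀ k ∈ K, ∃ g ∈ classGroup x E R, g * u * g⁻¹ = k * u) :
    u ∉ commutator G := by
  classical
  haveI : Fact (Nat.Prime 2) := ⟨Nat.prime_two⟩
  haveI := h.trans
  have hu2 : orderOf u = 2 := hl.bad.1
  have huu := mul_self_of_orderOf_eq_two hu2
  set L := classGroup x E R with hL
  have hLx : ∀ {g}, g ∈ L → g • x = x := fun hg =>
    mem_stabilizer_iff.mp (mem_inf.mp (mem_inf.mp hg).1).1
  have hRL : R ≤ L := le_inf (hRC.trans (H26.Asch.centAt_le_normAt' x E)) le_normalizer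
  have hEu : E ⊔ zpowers u ≤ R := sup_le (hEK.trans hKR) (zpowers_le.mpr huR)
  -- conjugates of `u` are not members
  have hnotD : ∀ a : G, a * u * a⁻¹ ∉ D := fun a ha => by
    have h1 := h.conj_mem ha a⁻¹
    rw [show a⁻¹ * (a * u * a⁻¹) * a⁻¹⁻¹ = u by group] at h1
    obtain ⟨-, ⟨p, q, hpq, hp, hq⟩, -⟩ := hl.bad
    exact hpq ((h.unique h1).unique hp hq)
  have hnotK : ∀ a : G, a * u * a⁻¹ ∉ K := fun a ha => by
    have h2 : a * u * a⁻¹ * (a * u * a⁻¹) = 1 := by rw [conj_mul, huu, mul_one, mul_inv_cancel]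
    refine hnotD a (line2_member hl (homega _ ha h2) fun e => ?_).1
    exact H39.ne_one_of_orderOf_eq_two hu2 (conj_eq_one_iff.mp e)
  -- the maximal 2-subgroup of `classGroup`
  obtain ⟨S, hRS, hSmax⟩ := exists_maxTwo_ge hR2 hRL
  have hS2 := hSmax.1
  have hSL := hSmax.2.1
  have hSnormE : S ≤ normalizer (E : Set G) := fun s hs => (mem_inf.mp (mem_inf.mp (hSL hs)).1).2
  have hcentE : ∀ s ∈ S, (∀ e ∈ E, Commute s e) → s ∈ R := fun s hs hse =>
    hRmax (S ⊓ centAt x E) (hS2.to_le inf_le_left) inf_le_right (le_inf hRS hRC)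
      (mem_inf.mpr ⟨hs, mem_centAt'.mpr ⟨hLx (hSL hs),
        fun e he => by rw [(hse e he).eq, mul_inv_cancel_right]⟩⟩)
  have hcentu : ∀ s ∈ S, Commute s u → s ∈ E ⊔ zpowers u := fun s hs hsu => by
    set W := S ⊓ centralizer ({u} : Set G) with hW
    have hle : E ⊔ zpowers u ≤ W := le_inf (hEu.trans hRS) (sup_le
      (fun e he => mem_centralizer_singleton_iff.mpr (line2_commute hl he).eq)
      (zpowers_le.mpr (mem_centralizer_singleton_iff.mpr rfl)))
    have hW16 := (eight_small h hl hP h8 hy hyx (W := W) (hS2.to_le inf_le_left)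
      (fun g hg => hLx (hSL (mem_inf.mp hg).1))
      fun g hg => mem_centralizer_singleton_iff.mp (mem_inf.mp hg).2).1
    have heq : E ⊔ zpowers u = W :=
      eq_of_le_of_card_ge hle (hW16.trans_eq (eight_card_sup h hl h8).symm)
    rw [heq]
    exact mem_inf.mpr ⟨hs, mem_centralizer_singleton_iff.mpr hsu.eq⟩
  have hconjS : ∀ s ∈ S, ⁅s, u⁆ ∈ K := fun s hs => by
    rw [commutatorElement_def, inv_eq_of_mul_eq_one_right huu]
    exact hclass s (hSL hs)
  -- the order of `S`
  have hcardS : Nat.card S = 16 * Nat.card K := by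
    refine le_antisymm ?_ ?_
    · refine ((H51.Asch.card_le_centralized_mul (K := S) (T := K) u hconjS).1).trans
        (Nat.mul_le_mul_right _ ?_)
      rw [← eight_card_sup h hl h8]
      exact card_le_of_le fun s hs =>
        hcentu s hs.1 (mem_centralizer_singleton_iff.mp (mem_inf.mp hs).2)
    set St : Subgroup L := (centralizer ({u} : Set G)).subgroupOf L with hSt
    have hidx : St.index = Nat.card K := by
      choose g hg hgu using fun k : K => horbit k k.2
      refine (Nat.card_eq_of_bijective (fun k : K => QuotientGroup.mk (s := St) ⟨g k, hg k⟩)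
        ⟨fun k k' hkk => ?_, fun z => ?_⟩).symm
      · have h1 := mem_centralizer_singleton_iff.mp (mem_subgroupOf.mp (QuotientGroup.eq.mp hkk))
        simp only [Subgroup.coe_mul, Subgroup.coe_inv] at h1
        have h2 : g k * u * (g k)⁻¹ = g k' * u * (g k')⁻¹ := by
          calc g k * u * (g k)⁻¹ = g k * (u * ((g k)⁻¹ * g k')) * (g k')⁻¹ := by group
            _ = g k * (((g k)⁻¹ * g k') * u) * (g k')⁻¹ := by rw [h1]
            _ = _ := by group
        rw [hgu k, hgu k'] at h2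
        exact Subtype.ext (mul_right_cancel h2)
      · obtain ⟨⟨n, hn⟩, rfl⟩ := QuotientGroup.mk_surjective z
        refine ⟨⟨_, hclass n hn⟩, QuotientGroup.eq.mpr (mem_subgroupOf.mpr
          (mem_centralizer_singleton_iff.mpr ?_))⟩
        push_cast
        set k : K := ⟨_, hclass n hn⟩ with hk
        have h2 : n * u * n⁻¹ = g k * u * (g k)⁻¹ := by
          rw [hgu k, hk]
          show n * u * n⁻¹ = n * u * n⁻¹ * u * u
          rw [mul_assoc _ u u, huu, mul_one]
        calc (g k)⁻¹ * n * u = (g k)⁻¹ * (n * u * n⁻¹) * n := by group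
          _ = (g k)⁻¹ * (g k * u * (g k)⁻¹) * n := by rw [h2]
          _ = u * ((g k)⁻¹ * n) := by group
    have h16 : 16 ∣ Nat.card St := by
      have hle : (E ⊔ zpowers u).subgroupOf L ≤ St := fun t ht =>
        mem_subgroupOf.mpr ((sup_le
          (fun e he => mem_centralizer_singleton_iff.mpr (line2_commute hl he).eq)
          (zpowers_le.mpr (mem_centralizer_singleton_iff.mpr rfl)) :
            E ⊔ zpowers u ≤ centralizer ({u} : Set G)) (mem_subgroupOf.mp ht))
      have h1 := card_dvd_of_le hle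
      rwa [Nat.card_congr (subgroupOfEquivOfLe (hEu.trans hRL)).toEquiv,
        eight_card_sup h hl h8] at h1
    obtain ⟨Y, hY⟩ := (hS2.comap_subtype (K := L)).exists_le_sylow
    have hYS : (Y : Subgroup L).map L.subtype = S :=
      hSmax.2.2 _ (Y.isPGroup'.map _) (map_subtype_le _) fun p hp =>
        ⟨⟨p, hSL hp⟩, hY (show p ∈ S from hp), rfl⟩
    have hdvd : 16 * Nat.card K ∣ Nat.card L := by
      rw [← St.card_mul_index, hidx]
      exact mul_dvd_mul_right h16 _
    obtain ⟨m, hm⟩ := IsPGroup.iff_card.mp (hR2.to_le hKR)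
    rw [hm, show (16 : ℕ) = 2 ^ 4 by norm_num, ← pow_add] at hdvd ⊢
    rw [← hYS, Subgroup.card_map_of_injective L.subtype_injective]
    exact Nat.le_of_dvd Nat.card_pos (Y.pow_dvd_card_of_pow_dvd_card hdvd)
  -- the configuration
  set C : Set G := {v | ∃ a : G, a * u * a⁻¹ = v ∧ v • x = x} with hC
  have hcore : ∀ {g}, g ∈ R → g ∈ H74.Asch.core K u := fun {g} hg => by
    rcases hKcases g hg with h1 | h1
    · exact mem_sup_left h1
    · rw [show g = g * u * u by rw [mul_assoc, huu, mul_one]]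
      exact mul_mem (mem_sup_left h1) (mem_sup_right (mem_zpowers u))
  have hcoreR : H74.Asch.core K u = R := le_antisymm (sup_le hKR (zpowers_le.mpr huR))
    fun g hg => hcore hg
  have d : H74.Asch.EightData (stabilizer G x) S K E u C :=
    { sq := fun e he => line2_mul_self hl h he
      card_E := h8
      E_le := hEK
      omega := homega
      roots := hroots
      sq_u := huu
      u_notMem := huK
      inverts := hinv
      two := hS2
      le := fun s hs => mem_stabilizer_iff.mpr (hLx (hSL hs))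
      K_le := hKR.trans hRS
      u_mem := hRS huR
      card_S := hcardS
      normE := hSnormE
      normK := fun s hs => mem_normalizer_of_conj_mem fun k hk => hKinv s (hSL hs) k hk
      conj_u := fun s hs => hclass s (hSL hs)
      cent_E := fun s hs hse => hKcases s (hcentE s hs hse)
      cent_u := fun s hs hsu => hKcases s (hEu (hcentu s hs hsu))
      conj_mem := fun g hg v hv => by
        obtain ⟨a, rfl, hax⟩ := hv
        refine ⟨g * a, by group, ?_⟩
        rw [mul_smul, mul_smul, inv_smul_eq_iff.mpr (mem_stabilizer_iff.mp hg).symm, hax,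
          mem_stabilizer_iff.mp hg]
      inv := fun v hv => by
        obtain ⟨a, rfl, -⟩ := hv
        rw [conj_mul, huu, mul_one, mul_inv_cancel]
      notMem := fun v hv => by
        obtain ⟨a, rfl, -⟩ := hv
        exact hnotK a
      u_C := ⟨1, by group, hl.fix⟩
      small := fun v hv W hW hWx hWv => by
        obtain ⟨a, rfl, hax⟩ := hv
        obtain ⟨k, hk, hkt⟩ := H1.Asch.exists_stabilizer_conj h
          (T := zpowers u) (IsPGroup.of_card (n := 1) (by rw [Nat.card_zpowers, hu2]; rfl))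
          (p := x) (fun e he => (zpowers_le.mpr (show u ∈ stabilizer G x from hl.fix)) he) (a := a)
          fun t ht => (zpowers_le.mpr (show u ∈ (stabilizer G x).comap (MulAut.conj a).toMonoidHom
            from mem_stabilizer_iff.mpr hax)) ht
        have hku := hkt u (mem_zpowers u)
        have hkx : k • x = x := mem_stabilizer_iff.mp hk
        obtain ⟨h1, h2, h3⟩ := eight_small h hl hP h8 hy hyx
          (W := W.map (MulAut.conj k⁻¹).toMonoidHom) (hW.map _) (by
            rintro _ ⟨g, hg, rfl⟩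
            show (k⁻¹ * g * k⁻¹⁻¹) • x = x
            rw [inv_inv, mul_smul, mul_smul, hkx, mem_stabilizer_iff.mp (hWx hg), inv_smul_eq_iff,
              hkx]) (by
            rintro _ ⟨g, hg, rfl⟩
            have h1 := commute_conj (hku ▸ hWv g hg : Commute g (k * u * k⁻¹)) k⁻¹
            rw [inv_inv, show k⁻¹ * (k * u * k⁻¹) * k = u by group] at h1
            show Commute (k⁻¹ * g * k⁻¹⁻¹) u
            rwa [inv_inv])
        refine ⟨?_, fun a ha b hb => ?_, fun a ha => ?_⟩
        · rwa [Subgroup.card_map_of_injective (f := (MulAut.conj k⁻¹).toMonoidHom)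
            (MulAut.conj k⁻¹).injective] at h1
        · exact (MulAut.conj k⁻¹).injective (by
            rw [map_mul, map_mul]; exact (h2 _ ⟨a, ha, rfl⟩ _ ⟨b, hb, rfl⟩).eq)
        · exact (MulAut.conj k⁻¹).injective (by
            rw [map_mul, map_one]; exact h3 _ ⟨a, ha, rfl⟩)
      max := fun P hP2 hPx hSP hPn => by
        rw [hcoreR] at hPn
        have hPL : P ≤ L := fun p hp => by
          refine mem_inf.mpr ⟨mem_inf.mpr ⟨hPx hp, mem_normalizer_of_conj_mem fun e he => ?_⟩,
            hPn hp⟩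
          have he' : p * e * p⁻¹ ∈ R := (mem_normalizer_iff.mp (hPn hp) e).mp (hKR (hEK he))
          by_cases he1 : e = 1
          · rw [he1, mul_one, mul_inv_cancel]; exact E.one_mem
          rcases hKcases _ he' with h1 | h1
          · exact homega _ h1 (by
              rw [conj_mul, line2_mul_self hl h he, mul_one, mul_inv_cancel])
          · exfalso
            obtain ⟨g, -, hgu⟩ := horbit _ h1
            rw [mul_assoc _ u u, huu, mul_one] at hgu
            refine hnotD g ?_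
            rw [hgu]
            exact h.conj_mem (line2_member hl he he1).1 p
        exact (hSmax.2.2 P hP2 hPL hSP).le }
  refine d.not_mem_commutator ?_ fun a ha => ⟨a⁻¹, by rw [inv_inv], mem_stabilizer_iff.mp ha⟩
  rw [index_stabilizer_of_transitive]
  exact h.odd_card

end

variable {Q : Subgroup G}

/-- **The residue for `Q = E`.** -/
theorem eqResidueStep (h : Crit G Ω D) : H6.Asch.EqResidueStep Ω D := by
  intro hP u x y E R K N A hl hy hyx _ res
  classical
  haveI : Fact (Nat.Prime 2) := ⟨Nat.prime_two⟩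
  have d := res.data
  have h8 := res.card_E
  have huu := mul_self_of_orderOf_eq_two hl.bad.1
  have hER : E ≤ R := fun e he =>
    d.R_max (R ⊔ zpowers e) (d.R_two.to_sup_of_normal_left'
      (hl.isPGroup.to_le (zpowers_le.mpr he)) (zpowers_le.mpr
        (mem_normalizer_of_conj_mem fun r hr => by
          rwa [(show Commute e r from mem_centralizer_iff.mp (mem_inf.mp (d.R_le hr)).2 e he).eq,
            mul_inv_cancel_right])))
      (sup_le d.R_le (zpowers_le.mpr (mem_centAt'.mpr ⟨line2_smul hl he, fun f hf => by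
        rw [(hl.central e he f hf).eq, mul_inv_cancel_right]⟩))) le_sup_left
      (mem_sup_right (mem_zpowers e))
  have hEK : E ≤ K := by
    obtain ⟨e₁, he₁, he₁1, -⟩ := line2_exists_ne hl (a := (1 : G))
    obtain ⟨e₀, he₀, he₀1, he₀K⟩ : ∃ e ∈ E, e ≠ 1 ∧ e ∈ K := by
      obtain ⟨e₂, he₂, he₂1, he₂₁⟩ := line2_exists_ne hl (a := e₁)
      rcases d.K_cases e₁ (hER he₁) with h1 | h1
      · exact ⟨e₁, he₁, he₁1, h1⟩
      rcases d.K_cases e₂ (hER he₂) with h2 | h2
      · exact ⟨e₂, he₂, he₂1, h2⟩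
      refine ⟨e₁ * e₂, E.mul_mem he₁ he₂, fun e => he₂₁ ?_, ?_⟩
      · rw [← inv_eq_of_mul_eq_one_right e, inv_eq_of_mul_eq_one_right (line2_mul_self hl h he₁)]
      · have := K.mul_mem h1 h2
        rwa [(line2_commute hl he₂).symm.mul_mul_mul_comm, huu, mul_one] at this
    intro e he
    by_cases he1 : e = 1
    · rw [he1]; exact K.one_mem
    obtain ⟨k, hk, hke⟩ := d.trans e₀ he₀ e he he₀1 he1
    rw [← hke]
    exact d.K_invariant k hk e₀ he₀K
  have hsmall := fun (W : Subgroup G) h1 h2 h3 =>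
    eight_small h hl hP h8 hy hyx (W := W) h1 h2 h3
  set W := R ⊓ centralizer ({u} : Set G) with hW
  have hRx : ∀ g ∈ R, g • x = x := fun g hg => (mem_centAt'.mp (d.R_le hg)).1
  have hW16 : Nat.card W ≤ 16 := (hsmall W (d.R_two.to_le inf_le_left)
    (fun g hg => hRx g (mem_inf.mp hg).1)
    fun g hg => mem_centralizer_singleton_iff.mp (mem_inf.mp hg).2).1
  have hWeq : E ⊔ zpowers u = W := eq_of_le_of_card_ge (le_inf
    (sup_le hER (zpowers_le.mpr d.u_mem)) (sup_le
      (fun e he => mem_centralizer_singleton_iff.mpr (line2_commute hl he).eq)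
      (zpowers_le.mpr (mem_centralizer_singleton_iff.mpr rfl))))
    (hW16.trans_eq (eight_card_sup h hl h8).symm)
  -- one coset of `N` is one class under `R`
  have hfill : ∀ n ∈ N, ∃ r ∈ R, r * u * r⁻¹ = n * u := by
    intro n hn
    have h2K : 2 * Nat.card K ≤ Nat.card R := by
      rw [← show Nat.card (Bool × K) = 2 * Nat.card K by
        rw [Nat.card_prod, Nat.card_eq_fintype_card (α := Bool), Fintype.card_bool]]
      refine Nat.card_le_card_of_injective (fun p : Bool × K =>
        (⟨if p.1 then (p.2 : G) * u else p.2, by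
          split_ifs
          · exact R.mul_mem (d.K_le p.2.2) d.u_mem
          · exact d.K_le p.2.2⟩ : R)) ?_
      rintro ⟨b, k⟩ ⟨b', k'⟩ e
      have e' := congrArg Subtype.val e
      cases b <;> cases b' <;> simp at e'
      · exact Prod.ext rfl e'
      · exact absurd (by rw [show u = (k' : G)⁻¹ * k by rw [e', inv_mul_cancel_left]]
                         exact K.mul_mem (K.inv_mem k'.2) k.2) d.u_notMem
      · exact absurd (by rw [show u = (k : G)⁻¹ * k' by rw [← e', inv_mul_cancel_left]]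
                         exact K.mul_mem (K.inv_mem k.2) k'.2) d.u_notMem
      · exact Prod.ext rfl e'
    obtain ⟨r, hr, hrn⟩ := (H51.Asch.card_le_centralized_mul (K := R) (T := N) u
      fun g hg => d.commutator_mem hg d.u_mem).2 (by
        rw [d.card_K, h8] at h2K
        calc Nat.card W * Nat.card N ≤ 16 * Nat.card N := Nat.mul_le_mul_right _ hW16
          _ ≤ Nat.card R := by omega) n hn
    refine ⟨r, hr, ?_⟩
    rw [← hrn, commutatorElement_def, inv_mul_cancel_right]
  have horbit : ∀ k ∈ K, ∃ g ∈ classGroup x E R, g * u * g⁻¹ = k * u := by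
    intro k hk
    obtain ⟨g, hg, hgk⟩ := res.orbit k hk
    set n := g * u * g⁻¹ * u * k⁻¹ with hn
    have hn' : g⁻¹ * n⁻¹ * g ∈ N := by
      simpa using d.N_invariant g⁻¹ (inv_mem hg) _ (N.inv_mem hgk)
    obtain ⟨r, hr, hru⟩ := hfill _ hn'
    refine ⟨g * r, mul_mem hg (d.R_le_classGroup hr), ?_⟩
    calc g * r * u * (g * r)⁻¹ = g * (r * u * r⁻¹) * g⁻¹ := by group
      _ = n⁻¹ * (g * u * g⁻¹) := by rw [hru]; group
      _ = k * u⁻¹ := by rw [hn]; group
      _ = k * u := by rw [inv_eq_of_mul_eq_one_right huu]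
  have hinv : ∀ k ∈ K, u * k * u = k⁻¹ := fun k hk => by
    obtain ⟨g, -, hgk⟩ := horbit k hk
    have h1 : k * u * (k * u) = 1 := by rw [← hgk, conj_mul, huu, mul_one, mul_inv_cancel]
    rw [eq_inv_iff_mul_eq_one]
    calc u * k * u * k = k⁻¹ * (k * u * (k * u)) * k := by group
      _ = 1 := by rw [h1, mul_one, inv_mul_cancel]
  have homega : ∀ k ∈ K, k * k = 1 → k ∈ E := fun k hk hkk => by
    have hku : Commute k u := by
      show k * u = u * k
      calc k * u = u * u * k * u := by rw [huu, one_mul]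
        _ = u * (u * k * u) := by group
        _ = u * k := by rw [hinv k hk, inv_eq_of_mul_eq_one_right hkk]
    have h1 : k ∈ W := mem_inf.mpr ⟨d.K_le hk, mem_centralizer_singleton_iff.mpr hku.eq⟩
    rw [← hWeq] at h1
    refine ((eight_mem_sup h hl).mp h1).resolve_right fun h2 => d.u_notMem ?_
    have := K.mul_mem (K.inv_mem hk) (hEK h2)
    rwa [inv_mul_cancel_left] at this
  have hroots : K = E ∨ ∀ e ∈ E, ∃ k ∈ K, k * k = e := by
    by_cases hN : N = ⊥
    · left
      have hc := d.card_K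
      rw [hN, card_bot, mul_one] at hc
      exact (eq_of_le_of_card_ge hEK hc.le).symm
    right
    intro e he
    have hN2 : IsPGroup 2 N := d.R_two.to_le d.N_le_R
    haveI : Nontrivial N := nontrivial_iff_ne_bot N |>.mpr hN
    obtain ⟨z, hz⟩ := exists_prime_orderOf_dvd_card' (G := N) 2 (by
      obtain ⟨m, hm⟩ := IsPGroup.iff_card.mp hN2
      have := Finite.one_lt_card (α := N)
      rw [hm] at this ⊢
      exact dvd_pow_self 2 (by rintro rfl; simp at this))
    have hz2 : (z : G) * z = 1 := mul_self_of_orderOf_eq_two (by rwa [orderOf_coe])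
    have hz1 : (z : G) ≠ 1 := H39.ne_one_of_orderOf_eq_two (by rwa [orderOf_coe])
    have heN : e ∈ N := by
      by_cases he1 : e = 1
      · rw [he1]; exact N.one_mem
      obtain ⟨a, ha, hae⟩ := d.trans _ (homega _ (d.N_le z.2) hz2) e he hz1 he1
      rw [← hae]
      exact d.N_invariant a (d.A_le ha) _ z.2
    have hcommK : ∀ a ∈ K, ∀ b ∈ K, Commute a b := fun a ha b hb => by
      have h1 := hinv _ (K.mul_mem ha hb)
      rw [mul_inv_rev, ← hinv a ha, ← hinv b hb] at h1
      have h' : u * (a * b) * u = u * (b * a) * u := by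
        rw [h1]
        calc u * b * u * (u * a * u) = u * b * (u * u) * a * u := by group
          _ = _ := by rw [huu, mul_one, mul_assoc u]
      exact mul_left_cancel (mul_right_cancel h')
    let σ : K ⧸ E.subgroupOf K → N := fun q =>
      ⟨(q.out : G) * q.out, d.sq_mem _ (d.K_le q.out.2)⟩
    have hσ : Function.Injective σ := fun q q' e' => by
      rw [← QuotientGroup.out_eq' q, ← QuotientGroup.out_eq' q']
      refine QuotientGroup.eq.mpr (mem_subgroupOf.mpr (homega _ ?_ ?_))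
      · exact SetLike.coe_mem _
      · push_cast
        have h1 : (q.out : G) * q.out = q'.out * q'.out := congrArg Subtype.val e'
        rw [((hcommK _ q.out.2 _ q'.out.2).inv_left.symm).mul_mul_mul_comm, ← mul_inv_rev, h1,
          inv_mul_cancel]
    have hbij : Function.Bijective σ := (Nat.bijective_iff_injective_and_card σ).mpr ⟨hσ, by
      have h1 := Subgroup.card_eq_card_quotient_mul_card_subgroup (E.subgroupOf K)
      rw [Nat.card_congr (subgroupOfEquivOfLe hEK).toEquiv, h8, d.card_K, h8] at h1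
      omega⟩
    obtain ⟨q, hq⟩ := hbij.2 ⟨e, heN⟩
    exact ⟨_, q.out.2, congrArg Subtype.val hq⟩
  exact eight_not_mem h hl hP h8 hy hyx d.R_two d.R_le d.R_max d.K_le d.u_mem d.K_cases d.u_notMem
    hEK hinv homega hroots res.invariant d.conj_mul_mem horbit

/-- **No translation, `Q = E`.** -/
theorem eqNoTranslationStep (h : Crit G Ω D) : H6.Asch.EqNoTranslationStep Ω D := by
  intro hP u x E hl h8 hno
  classical
  have hu2 := hl.bad.1
  have huu := mul_self_of_orderOf_eq_two hu2
  obtain ⟨y, hyx, hy⟩ : ∃ y, y ≠ x ∧ u • y = y := by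
    obtain ⟨-, ⟨p, q, hpq, hp, hq⟩, -⟩ := hl.bad
    by_cases hpx : p = x
    · exact ⟨q, fun e => hpq (hpx.trans e.symm), hq⟩
    · exact ⟨p, hpx, hp⟩
  obtain ⟨P, -, hmax, hEP, huP, hPu⟩ := exists_maxTwo_commute_ge h hl hP hno hl.isPGroup
    (fun g hg => mem_inf.mpr ⟨mem_coreStab.mpr ⟨line2_smul hl hg, fun e he => hl.central e he g hg⟩,
      mem_centralizer_singleton_iff.mpr (line2_commute hl hg).eq⟩)
  have hPx : ∀ t ∈ P, t • x = x := fun t ht => (mem_coreStab.mp (hmax.2.1 ht)).1
  have hPeq : P = E ⊔ zpowers u :=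
    (eight_maxTwo h hl hP hy hyx).2.2 P hmax.1
      (fun t ht => mem_inf.mpr ⟨hmax.2.1 ht, mem_centralizer_singleton_iff.mpr (hPu t ht).eq⟩)
      (sup_le hEP (zpowers_le.mpr huP))
  have hKinv : ∀ g ∈ classGroup x E P, ∀ k ∈ E, g * k * g⁻¹ ∈ E := fun g hg k hk =>
    (mem_normalizer_iff.mp (mem_inf.mp (mem_inf.mp hg).1).2 k).mp hk
  have hclass : ∀ g ∈ classGroup x E P, g * u * g⁻¹ * u ∈ E := by
    intro g hg
    obtain ⟨e, he, hge⟩ := H51.Asch.exists_eq_mul_of_normalizer h hl hP hmax.1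
      (fun t ht => ⟨hPx t ht, hPu t ht⟩) hEP huP (mem_inf.mp hg).2
    rwa [hge, mul_assoc, (line2_commute hl he).eq, ← mul_assoc, huu, one_mul]
  refine eight_not_mem h hl hP h8 hy hyx (R := P) (K := E) hmax.1
    (fun t ht => mem_centAt'.mpr ⟨hPx t ht, fun e he => by
      rw [← ((mem_coreStab.mp (hmax.2.1 ht)).2 e he).eq, mul_inv_cancel_right]⟩)
    (fun P' h1 h2 h3 => (hmax.2.2 P' h1 (fun t ht => mem_coreStab.mpr
      ⟨(mem_centAt'.mp (h2 ht)).1, fun e he =>
        (mul_inv_eq_iff_eq_mul.mp ((mem_centAt'.mp (h2 ht)).2 e he) : t * e = e * t).symm⟩) h3).le)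
    hEP huP (fun g hg => (eight_mem_sup h hl).mp (hPeq ▸ hg)) (eight_u_notMem h hl) le_rfl
    (fun k hk => ?_) (fun k hk _ => hk) (Or.inl rfl) hKinv hclass fun k hk => ?_
  · rw [← (line2_commute hl hk).eq, mul_assoc, huu, mul_one,
      inv_eq_of_mul_eq_one_right (line2_mul_self hl h hk)]
  · obtain ⟨n, hn, hnP, hnu⟩ := eight_exists_norm h hl hP hno hmax hEP huP hPu hk
    exact ⟨n, mem_inf.mpr ⟨hn, hnP⟩, hnu.trans (line2_commute hl hk).eq.symm⟩

end Cfsg.Agent.H73.Asch
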