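import Cfsg.Agent.H51.Asch.Translation
import Cfsg.Agent.H14.Asch.Shapes
import Cfsg.Agent.H30.Asch.NoneProperCover

/-!
A line with `|E| = 8` whose squaring is injective on `Q / E` has translations: an element inducing
an involution on `E` would act on `Q / E` so that some element outside `E` has only one non-trivial
commutator.
-/

set_option autoImplicit false
set_option linter.style.haveILetI false

namespace Cfsg.Agent.H73.Asch

open Subgroup MulAction
open Cfsg.Agent.H14.Asch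
open Cfsg.Agent.H51.Asch
open Cfsg.Agent.H39 (mul_self_of_orderOf_eq_two ne_one_of_orderOf_eq_two mem_normalizer_of_conj_mem)
open scoped commutatorElement Pointwise

universe u v

variable {G : Type u} [Group G] [Finite G]

/-- The kernel of the twist on `Q / E`. -/
theorem false_of_twist {Q E : Subgroup G} (hs : Squaring Q E) (hE : E ≤ Q)
    (hcard : Nat.card E = 8) (hQ : Nat.card Q = 64)
    (hcen : ∀ e ∈ E, ∀ g ∈ Q, Commute e g) (hsq2 : ∀ e ∈ E, e * e = 1)
    (hsq : ∀ g ∈ Q, g * g ∈ E) (hcomm : ∀ g ∈ Q, ∀ k ∈ Q, ⁅g, k⁆ ∈ E)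
    {n : G} (hn2 : ∀ e ∈ E, n * n * e = e * (n * n)) (hnE : ∀ e ∈ E, n * e * n⁻¹ ∈ E)
    (hmove : ∃ e ∈ E, n * e * n⁻¹ ≠ e) (f : G → G) (hfQ : ∀ g ∈ Q, f g ∈ Q)
    (hfm : ∀ g ∈ Q, ∀ k ∈ Q, f (g * k) = f g * f k)
    (hfsq : ∀ g ∈ Q, f g * f g = n * (g * g) * n⁻¹) : False := by
  classical
  haveI : Fact (Nat.Prime 2) := ⟨Nat.prime_two⟩
  have hinvE : ∀ e ∈ E, e⁻¹ = e := fun e he => inv_eq_of_mul_eq_one_right (hsq2 e he)
  have hnn : ∀ e ∈ E, n * (n * e * n⁻¹) * n⁻¹ = e := fun e he => by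
    rw [show n * (n * e * n⁻¹) * n⁻¹ = n * n * e * (n * n)⁻¹ by group, hn2 e he,
      mul_inv_cancel_right]
  -- squaring is onto `E`
  have hsurj : ∀ e ∈ E, ∃ g ∈ Q, g * g = e := by
    have hidx : Nat.card (↥Q ⧸ E.subgroupOf Q) = Nat.card E := by
      have h1 := Subgroup.card_eq_card_quotient_mul_card_subgroup (E.subgroupOf Q)
      rw [Nat.card_congr (Subgroup.subgroupOfEquivOfLe hE).toEquiv, hcard, hQ] at h1
      omega
    let σ : ↥Q ⧸ E.subgroupOf Q → E := fun q =>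
      ⟨(q.out : G) * (q.out : G), hsq _ q.out.2⟩
    have hσ : Function.Injective σ := fun q q' e => by
      rw [← QuotientGroup.out_eq' q, ← QuotientGroup.out_eq' q']
      refine (QuotientGroup.eq.mpr (mem_subgroupOf.mpr ?_)).symm
      have h1 := hs.inj _ q.out.2 _ q'.out.2 (congrArg Subtype.val e)
      have h2 := hcen _ h1 _ q'.out.2
      have : ((q'.out : ↥Q) : G)⁻¹ * (q.out : G) = (q.out : G) * (q'.out : G)⁻¹ := by
        calc ((q'.out : ↥Q) : G)⁻¹ * (q.out : G)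
            = ((q'.out : ↥Q) : G)⁻¹ * ((q.out : G) * (q'.out : G)⁻¹ * (q'.out : G)) := by group
          _ = ((q'.out : ↥Q) : G)⁻¹ * ((q'.out : G) * ((q.out : G) * (q'.out : G)⁻¹)) := by rw [h2.eq]
          _ = _ := by group
      push_cast
      rw [this]
      exact h1
    intro e he
    obtain ⟨q, hq⟩ := ((Nat.bijective_iff_injective_and_card σ).mpr ⟨hσ, hidx⟩).2 ⟨e, he⟩
    exact ⟨_, q.out.2, congrArg Subtype.val hq⟩
  have hinj : ∀ a ∈ Q, ∀ b ∈ Q, a * a = b * b → a * b⁻¹ ∈ E := hs.inj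
  -- `D g = f g * g⁻¹`
  have hDQ : ∀ g ∈ Q, f g * g⁻¹ ∈ Q := fun g hg => Q.mul_mem (hfQ g hg) (Q.inv_mem hg)
  let W : Subgroup G :=
    { carrier := {g | g ∈ Q ∧ f g * g⁻¹ ∈ E}
      one_mem' := by
        have h1 := hfm 1 Q.one_mem 1 Q.one_mem
        rw [one_mul, left_eq_mul] at h1
        exact ⟨Q.one_mem, by simp [h1]⟩
      mul_mem' := fun {a b} ha hb => by
        refine ⟨Q.mul_mem ha.1 hb.1, ?_⟩
        have h2 := hcen _ hb.2 _ (Q.inv_mem ha.1)
        rw [hfm a ha.1 b hb.1, show f a * f b * (a * b)⁻¹ = f a * ((f b * b⁻¹) * a⁻¹) by group,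
          h2.eq, ← mul_assoc]
        exact E.mul_mem ha.2 hb.2
      inv_mem' := fun {a} ha => by
        refine ⟨Q.inv_mem ha.1, ?_⟩
        have h1 := hfm a ha.1 a⁻¹ (Q.inv_mem ha.1)
        have h0 := hfm 1 Q.one_mem 1 Q.one_mem
        rw [one_mul, left_eq_mul] at h0
        rw [mul_inv_cancel, h0] at h1
        rw [eq_inv_of_mul_eq_one_right h1.symm, inv_inv]
        have h2 := hcen _ ha.2 _ ha.1
        have h3 : (f a)⁻¹ * a = (f a * a⁻¹)⁻¹ := by
          calc (f a)⁻¹ * a = (f a * a⁻¹ * a)⁻¹ * a := by group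
            _ = (a * (f a * a⁻¹))⁻¹ * a := by rw [h2.eq]
            _ = _ := by group
        rw [h3]
        exact E.inv_mem ha.2 }
  have hmemW : ∀ {g : G}, g ∈ W ↔ g ∈ Q ∧ f g * g⁻¹ ∈ E := Iff.rfl
  have hWQ : W ≤ Q := fun g hg => hg.1
  have hsqW : ∀ g ∈ W, n * (g * g) * n⁻¹ = g * g := fun g hg => by
    rw [← hfsq g hg.1]
    calc f g * f g = (f g * g⁻¹) * (g * (f g * g⁻¹)) * g := by group
      _ = (f g * g⁻¹) * ((f g * g⁻¹) * g) * g := by rw [(hcen _ hg.2 _ hg.1).eq]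
      _ = (f g * g⁻¹) * (f g * g⁻¹) * (g * g) := by group
      _ = g * g := by rw [hsq2 _ hg.2, one_mul]
  have hWiff : ∀ g ∈ Q, n * (g * g) * n⁻¹ = g * g → g ∈ W := fun g hg e =>
    ⟨hg, hinj _ (hfQ g hg) _ hg (by rw [hfsq g hg, e])⟩
  have hEW : E ≤ W := fun e he => hWiff e (hE he) (by rw [hsq2 e he]; group)
  -- twice the twist is trivial modulo `E`
  have hff : ∀ g ∈ Q, f (f g) * g⁻¹ ∈ E := fun g hg =>
    hinj _ (hfQ _ (hfQ g hg)) _ hg (by
      rw [hfsq _ (hfQ g hg), hfsq g hg, hnn _ (hsq g hg)])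
  have hDW : ∀ g ∈ Q, f g * g⁻¹ ∈ W := fun g hg => by
    refine hWiff _ (hDQ g hg) ?_
    rw [← hfsq _ (hDQ g hg)]
    set d := f g * g⁻¹ with hd
    have h1 : f d * f g = f (f g) := by
      rw [← hfm _ (hDQ g hg) _ hg, show d * g = f g by rw [hd, inv_mul_cancel_right]]
    have h2 : f d = f (f g) * g⁻¹ * d⁻¹ := by
      rw [← h1, show d⁻¹ = g * (f g)⁻¹ by rw [hd, mul_inv_rev, inv_inv]]; group
    obtain ⟨e, he, hfd⟩ : ∃ e ∈ E, f d = e * d⁻¹ := ⟨_, hff g hg, h2⟩
    have hde := hcen e he _ (Q.inv_mem (hDQ g hg))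
    rw [hfd, hde.symm.mul_mul_mul_comm, hsq2 e he, one_mul, ← mul_inv_rev,
      hinvE _ (hsq _ (hDQ g hg))]
  -- `W` has index two
  have hW32 : Nat.card W = 32 := by
    have hWne : Nat.card W ≠ 64 := by
      intro e
      have : W = Q := eq_of_le_of_card_ge hWQ (by rw [e, hQ])
      obtain ⟨e₁, he₁, hne⟩ := hmove
      obtain ⟨g, hg, rfl⟩ := hsurj e₁ he₁
      exact hne (hsqW g (this ▸ hg))
    have hdvd : Nat.card W ∣ 64 := hQ ▸ card_dvd_of_le hWQ
    let D : ↥Q ⧸ W.subgroupOf Q → ↥W ⧸ E.subgroupOf W := fun q =>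
      QuotientGroup.mk ⟨f (q.out : G) * (q.out : G)⁻¹, hDW _ q.out.2⟩
    have hD : Function.Injective D := fun q q' e => by
      rw [← QuotientGroup.out_eq' q, ← QuotientGroup.out_eq' q']
      refine QuotientGroup.eq.mpr (mem_subgroupOf.mpr ?_)
      set a := (q.out : G) with ha
      set b := (q'.out : G) with hb
      have haQ : a ∈ Q := q.out.2
      have hbQ : b ∈ Q := q'.out.2
      have h1 := mem_subgroupOf.mp (QuotientGroup.eq.mp e)
      push_cast at h1
      push_cast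
      refine ⟨Q.mul_mem (Q.inv_mem haQ) hbQ, ?_⟩
      set z := (f a * a⁻¹)⁻¹ * (f b * b⁻¹) with hz
      have h2 : f (a⁻¹ * b) = (f a)⁻¹ * f b := by
        have := hfm a haQ (a⁻¹ * b) (Q.mul_mem (Q.inv_mem haQ) hbQ)
        rw [mul_inv_cancel_left] at this
        rw [this, inv_mul_cancel_left]
      rw [h2, show (f a)⁻¹ * f b * (a⁻¹ * b)⁻¹ = a⁻¹ * z * a by rw [hz]; group,
        mul_assoc, (hcen z h1 a haQ).eq, inv_mul_cancel_left]
      exact h1
    have hle := Nat.card_le_card_of_injective D hD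
    have h1 := Subgroup.card_eq_card_quotient_mul_card_subgroup (W.subgroupOf Q)
    have h2 := Subgroup.card_eq_card_quotient_mul_card_subgroup (E.subgroupOf W)
    rw [Nat.card_congr (Subgroup.subgroupOfEquivOfLe hWQ).toEquiv, hQ] at h1
    rw [Nat.card_congr (Subgroup.subgroupOfEquivOfLe hEW).toEquiv, hcard] at h2
    obtain ⟨i, hi, hi2⟩ := (Nat.dvd_prime_pow Nat.prime_two).mp (show Nat.card W ∣ 2 ^ 6 from hdvd)
    set a := Nat.card (↥Q ⧸ W.subgroupOf Q)
    set b := Nat.card (↥W ⧸ E.subgroupOf W)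
    have h3 : 64 * 8 ≤ Nat.card W * Nat.card W := by
      calc 64 * 8 = a * 8 * Nat.card W := by rw [h1]; ring
        _ ≤ b * 8 * Nat.card W := by gcongr
        _ = Nat.card W * Nat.card W := by rw [← h2]
    rw [hi2] at h3 hWne ⊢
    interval_cases i <;> omega
  have hidx : (W.subgroupOf Q).index = 2 := by
    have h1 := (W.subgroupOf Q).card_mul_index
    rw [Nat.card_congr (Subgroup.subgroupOfEquivOfLe hWQ).toEquiv, hQ, hW32] at h1
    omega
  have htwo : ∀ a ∈ Q, ∀ b ∈ Q, a ∉ W → b ∉ W → a * b ∈ W := fun a ha b hb haW hbW => by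
    have h1 := Subgroup.mul_mem_iff_of_index_two hidx (a := ⟨a, ha⟩) (b := ⟨b, hb⟩)
    simp only [mem_subgroupOf] at h1
    push_cast at h1
    exact h1.mpr (iff_of_false haW hbW)
  -- the fixed elements of `E` have index two
  have hFix : ∀ e₁ ∈ E, ∀ e₂ ∈ E, n * e₁ * n⁻¹ ≠ e₁ → n * e₂ * n⁻¹ ≠ e₂ →
      n * e₁ * n⁻¹ * e₁ = n * e₂ * n⁻¹ * e₂ := by
    let P : Subgroup G := E ⊓ centralizer ({n} : Set G)
    have hP : ∀ {e : G}, e ∈ P ↔ e ∈ E ∧ n * e * n⁻¹ = e := fun {e} => by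
      simp only [P, mem_inf, mem_centralizer_singleton_iff, and_congr_right_iff]
      intro _
      rw [mul_inv_eq_iff_eq_mul, eq_comm]
    let σ : ↥W ⧸ E.subgroupOf W → P := fun q =>
      ⟨(q.out : G) * (q.out : G), hP.mpr ⟨hsq _ (hWQ q.out.2), hsqW _ q.out.2⟩⟩
    have hσ : Function.Injective σ := fun q q' e => by
      rw [← QuotientGroup.out_eq' q, ← QuotientGroup.out_eq' q']
      refine (QuotientGroup.eq.mpr (mem_subgroupOf.mpr ?_)).symm
      have h1 := hinj _ (hWQ q.out.2) _ (hWQ q'.out.2) (congrArg Subtype.val e)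
      have h2 := hcen _ h1 _ (hWQ q'.out.2)
      have h3 : ((q'.out : ↥W) : G)⁻¹ * (q.out : G) = (q.out : G) * (q'.out : G)⁻¹ := by
        calc ((q'.out : ↥W) : G)⁻¹ * (q.out : G)
            = ((q'.out : ↥W) : G)⁻¹ * ((q.out : G) * (q'.out : G)⁻¹ * (q'.out : G)) := by group
          _ = ((q'.out : ↥W) : G)⁻¹ * ((q'.out : G) * ((q.out : G) * (q'.out : G)⁻¹)) := by rw [h2.eq]
          _ = _ := by group
      push_cast
      rw [h3]
      exact h1
    have h4 : 4 ≤ Nat.card P := by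
      have h2 := Subgroup.card_eq_card_quotient_mul_card_subgroup (E.subgroupOf W)
      rw [Nat.card_congr (Subgroup.subgroupOfEquivOfLe hEW).toEquiv, hcard, hW32] at h2
      have := Nat.card_le_card_of_injective σ hσ
      omega
    intro e₁ h1 e₂ h2 m1 m2
    have hP1 : (P.subgroupOf E).index = 2 := by
      have h5 := (P.subgroupOf E).card_mul_index
      rw [Nat.card_congr (Subgroup.subgroupOfEquivOfLe (inf_le_left : P ≤ E)).toEquiv, hcard] at h5
      have hne8 : Nat.card P ≠ 8 := fun e8 => m1 (hP.mp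
        ((eq_of_le_of_card_ge (inf_le_left : P ≤ E) (by rw [e8, hcard])).ge h1)).2
      obtain ⟨i, hi, hi2⟩ := (Nat.dvd_prime_pow Nat.prime_two).mp
        (show Nat.card P ∣ 2 ^ 3 from Dvd.intro _ h5)
      rw [hi2] at h4 h5 hne8
      interval_cases i <;> (first | omega | norm_num at h4 | norm_num at hne8 | (norm_num at h5; omega))
    have h6 := Subgroup.mul_mem_iff_of_index_two hP1 (a := ⟨e₁, h1⟩) (b := ⟨e₂, h2⟩)
    simp only [mem_subgroupOf] at h6
    push_cast at h6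
    have h7 := (hP.mp (h6.mpr (iff_of_false (fun hh => m1 (hP.mp hh).2) fun hh => m2 (hP.mp hh).2))).2
    calc n * e₁ * n⁻¹ * e₁ = n * (e₁ * e₂) * n⁻¹ * ((n * e₂ * n⁻¹)⁻¹ * e₁) := by group
      _ = e₁ * e₂ * ((n * e₂ * n⁻¹) * e₁) := by rw [h7, hinvE _ (hnE e₂ h2)]
      _ = e₁ * e₁ * (n * e₂ * n⁻¹ * e₂) := by
        rw [(hcen e₁ h1 e₂ (hE h2)).eq, (hcen _ (hnE e₂ h2) e₁ (hE h1)).eq,
          ← mul_assoc, mul_assoc e₂ e₁ e₁, hsq2 e₁ h1, one_mul, mul_one,
          (hcen _ (hnE e₂ h2) e₂ (hE h2)).eq]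
      _ = _ := by rw [hsq2 e₁ h1, one_mul]
  -- the element with one commutator
  obtain ⟨e₁, he₁, hne⟩ := hmove
  obtain ⟨g₁, hg₁, rfl⟩ := hsurj e₁ he₁
  have hg₁W : g₁ ∉ W := fun h1 => hne (hsqW g₁ h1)
  set w := f g₁ * g₁⁻¹ with hw
  have hwQ : w ∈ Q := hDQ g₁ hg₁
  have hwE : w ∉ E := fun h1 => hg₁W ⟨hg₁, h1⟩
  have hcQ : ∀ g ∈ Q, ∀ k ∈ Q, ∀ e ∈ E, Commute ⁅g, k⁆ e := fun g hg k hk e he =>
    hcen _ (hcomm g hg k hk) e (hE he)
  set c₀ := n * (g₁ * g₁) * n⁻¹ * (g₁ * g₁) * (w * w) with hc₀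
  have hout : ∀ g ∈ Q, g ∉ W → ⁅w, g⁆ = c₀ := by
    intro g hg hgW
    -- `f g` is `w * g` modulo `E`
    have hk : g * g₁ ∈ W := htwo g hg g₁ hg₁ hgW hg₁W
    obtain ⟨e, he, hfg⟩ : ∃ e ∈ E, f g = e * (w * g) := by
      refine ⟨f g * (w * g)⁻¹, ?_, by group⟩
      have h2 := hk.2
      rw [hfm g hg g₁ hg₁] at h2
      set a := f g * g⁻¹ with ha
      have haQ : a ∈ Q := hDQ g hg
      have e1 : f g * f g₁ * (g * g₁)⁻¹ = a * w * ⁅w⁻¹, g⁆ := by
        rw [ha, hw, commutatorElement_def]; group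
      rw [e1] at h2
      have haw : a * w ∈ E := by
        have := E.mul_mem h2 (E.inv_mem (hcomm _ (Q.inv_mem hwQ) g hg))
        rwa [mul_inv_cancel_right] at this
      have e2 : f g * (w * g)⁻¹ = a * w * (w * w)⁻¹ := by rw [ha]; group
      rw [e2]
      exact E.mul_mem haw (E.inv_mem (hsq w hwQ))
    have h1 := hfsq g hg
    have hmv : n * (g * g) * n⁻¹ ≠ g * g := fun e => hgW (hWiff g hg e)
    have h3 := hFix _ (hsq g hg) _ (hsq g₁ hg₁) hmv hne
    have hwg : w * g ∈ Q := Q.mul_mem hwQ hg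
    rw [hfg, (hcen e he _ hwg).symm.mul_mul_mul_comm, hsq2 e he, one_mul] at h1
    have h4 : w * g * (w * g) = (⁅w, g⁆)⁻¹ * ((w * w) * (g * g)) := by
      have e4 : w * g * (w * g) = w * ⁅g, w⁆ * w * (g * g) := by
        rw [commutatorElement_def]; group
      rw [e4, ← (hcen _ (hcomm g hg w hwQ) w hwQ).eq, ← commutatorElement_inv g w, inv_inv]
      group
    rw [h4, hinvE _ (hcomm w hwQ g hg)] at h1
    have h5 : ⁅w, g⁆ = n * (g * g) * n⁻¹ * ((w * w) * (g * g))⁻¹ := by rw [← h1]; group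
    rw [h5, hc₀, mul_inv_rev, hinvE _ (hsq g hg), hinvE _ (hsq w hwQ), ← mul_assoc, h3]
  have hin : ∀ g ∈ Q, g ∈ W → ⁅w, g⁆ = 1 := by
    intro g hg hgW
    have h1 : g * g₁ ∉ W := fun h2 => hg₁W (by
      have := W.mul_mem (W.inv_mem hgW) h2
      rwa [inv_mul_cancel_left] at this)
    have h2 := hout _ (Q.mul_mem hg hg₁) h1
    rw [← hout g₁ hg₁ hg₁W] at h2
    have h3 : ⁅w, g * g₁⁆ = ⁅w, g⁆ * (g * ⁅w, g₁⁆ * g⁻¹) := by
      simp only [commutatorElement_def]; group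
    rw [h3, ← (hcen _ (hcomm w hwQ g₁ hg₁) g hg).eq, mul_inv_cancel_right] at h2
    exact mul_eq_right.mp h2
  obtain ⟨k, hk, l, hl, hk1, hl1, hkl⟩ := hs.rank w hwQ hwE
  have hkW : k ∉ W := fun h1 => hk1 (hin k hk h1)
  have hlW : l ∉ W := fun h1 => hl1 (hin l hl h1)
  exact hkl ((hout k hk hkW).trans (hout l hl hlW).symm)

variable {Ω : Type v} [MulAction G Ω] [Finite Ω] {D : Set G}

/-- **No Suzuki line with `q = 8` is without translations.** -/
theorem false_of_suzuki_eight (h : Crit G Ω D) (hP : RankOnePairs (G := G) Ω) {u : G} {x : Ω}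
    {E Q : Subgroup G} (hl : Line2 D u x E Q) (hs : Squaring Q E) (hq : Nat.card E = 8)
    (hQ : Nat.card Q = 64) (hno : ¬ HasTranslation u x E) : False := by
  classical
  haveI : Fact (Nat.Prime 2) := ⟨Nat.prime_two⟩
  obtain ⟨hu2, ⟨p₀, q₀, hpq, hp₀, hq₀⟩, -⟩ := id hl.bad
  obtain ⟨y, hyx, hy⟩ : ∃ y, y ≠ x ∧ u • y = y := by
    by_cases hpx : p₀ = x
    · exact ⟨q₀, fun e => hpq (hpx.trans e.symm), hq₀⟩
    · exact ⟨p₀, hpx, hp₀⟩
  have huu : u * u = 1 := mul_self_of_orderOf_eq_two hu2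
  obtain ⟨P, hQP, hmax, hEP, huP, hPu⟩ := exists_maxTwo_commute_ge h hl hP hno hl.isPGroup
    (fun g hg => mem_inf.mpr ⟨mem_coreStab.mpr ⟨line2_smul hl hg, fun e he => hl.central e he g hg⟩,
      mem_centralizer_singleton_iff.mpr (line2_commute hl hg).eq⟩)
  have hPx : ∀ t ∈ P, t • x = x := fun t ht => (mem_coreStab.mp (hmax.2.1 ht)).1
  have hS : P ⊓ lineGroup D u = Q := by
    refine (eq_of_le_of_card_ge (le_inf hQP fun g hg => (mem_inf.mp (hl.Q_le hg)).1) ?_).symm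
    obtain ⟨g, -, hle⟩ := hl.sylow (P ⊓ lineGroup D u) (hmax.1.to_le inf_le_left) fun t ht =>
      mem_inf.mpr ⟨(mem_inf.mp ht).2, mem_stabilizer_iff.mpr (hPx t (mem_inf.mp ht).1)⟩
    refine (card_le_of_le hle).trans (le_of_eq ?_)
    exact (Nat.card_congr (Subgroup.equivSMul (MulAut.conj g) Q).toEquiv).symm
  have hPQ : ∀ t ∈ P, ∀ g ∈ Q, t * g * t⁻¹ ∈ Q := fun t ht g hg => by
    have hg2 := hg
    rw [← hS] at hg2 ⊢
    refine mem_inf.mpr ⟨P.mul_mem (P.mul_mem ht (hQP hg)) (P.inv_mem ht), ?_⟩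
    exact H30.Asch.conj_mem_lineGroup_of_commute h (hPu t ht) (mem_inf.mp hg2).2
  -- the elements of `P` with square in `E` are those of `Q ∪ Q u`
  have hsqR : ∀ g ∈ P, g * g ∈ E → g ∈ Q ∨ g * u ∈ Q := by
    intro g hg hgg
    have hgy : u • g • y = g • y := smul_fixed_of_commute (hPu g hg) hy
    have hgx : g • y ≠ x := fun e => hyx (MulAction.injective g (e.trans (hPx g hg).symm))
    obtain ⟨q, hq', hqy⟩ := hl.trans y (g • y) hy hgy hyx hgx
    set t := q⁻¹ * g with ht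
    have htP : t ∈ P := P.mul_mem (P.inv_mem (hQP hq')) hg
    have hty : t • y = y := by rw [ht, mul_smul, ← hqy, inv_smul_smul]
    have htt : t * t = 1 := by
      refine hl.free _ ?_ y hy hyx (by rw [mul_smul, hty, hty])
      have e1 : t * t = (t * q * t⁻¹)⁻¹ * (q⁻¹ * (g * g)) := by rw [ht]; group
      rw [e1]
      exact Q.mul_mem (Q.inv_mem (hPQ t htP q hq')) (Q.mul_mem (Q.inv_mem hq') (hl.E_le hgg))
    by_cases ht1 : t = 1
    · left; rwa [show g = q by rw [← mul_one q, ← ht1, ht, mul_inv_cancel_left]]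
    · right
      have htu : u = t := hP u t x y hu2 (orderOf_eq_prime (by rw [pow_two]; exact htt) ht1)
        (hPu t htP).symm (Ne.symm hyx) hl.fix hy (hPx t htP) hty
      have : g * u = q := by
        rw [show g = q * t by rw [ht, mul_inv_cancel_left], ← htu, mul_assoc, huu, mul_one]
      rwa [this]
  set NP := stabilizer G x ⊓ normalizer (E : Set G) ⊓ normalizer (P : Set G) with hNP
  have hNPe : ∀ {n}, n ∈ NP → ∃ e ∈ E, n * u * n⁻¹ = u * e := fun hn =>
    exists_eq_mul_of_normalizer h hl hP hmax.1 (fun t ht => ⟨hPx t ht, hPu t ht⟩) hEP huP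
      (mem_inf.mp hn).2
  have hfix : ∀ {k}, k ∈ coreStab x E → k ∈ normalizer (P : Set G) → Commute k u := by
    intro k hk hkP
    obtain ⟨e, he, hke⟩ := exists_eq_mul_of_normalizer h hl hP hmax.1
      (fun t ht => ⟨hPx t ht, hPu t ht⟩) hEP huP hkP
    have he1 : e = 1 := by
      by_contra he1
      exact hno ⟨k, hk, e, he, he1, hke⟩
    rw [he1, mul_one] at hke
    exact mul_inv_eq_iff_eq_mul.mp hke
  have hsurj : ∀ e ∈ E, ∃ n ∈ NP, n * u * n⁻¹ = u * e := by
    intro e he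
    obtain ⟨g, hg, hgu⟩ := exists_conj_eq_mul h hl he
    obtain ⟨hgx, hgE⟩ := mem_inf.mp hg
    have hgK : g ∈ normalizer (coreStab x E : Set G) := mem_normalizer_of_conj_mem fun k hk =>
      conj_mem_coreStab (mem_stabilizer_iff.mp hgx) hgE hk
    obtain ⟨k, hk, hkP⟩ := (hmax.map_conj hgK).exists_conj hmax
    have hn : k * g ∈ NP := by
      refine mem_inf.mpr ⟨mem_inf.mpr ⟨mul_mem (mem_inf.mp hk).1 hgx,
        mul_mem (centralizer_le_normalizer _ (mem_inf.mp hk).2) hgE⟩,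
        mem_normalizer_of_conj_mem fun t ht => ?_⟩
      have h1 := (hkP (g * t * g⁻¹)).mp ⟨t, ht, rfl⟩
      convert h1 using 1
      group
    obtain ⟨e', he', hne'⟩ := hNPe hn
    refine ⟨k * g, hn, ?_⟩
    have h2 : k * u * k⁻¹ * e = u * e' := by
      rw [← hne', show k * g * u * (k * g)⁻¹ = k * (g * u * g⁻¹) * k⁻¹ by group, hgu,
        show k * (u * e) * k⁻¹ = k * u * k⁻¹ * (k * e * k⁻¹) by group,
        ← ((mem_coreStab.mp hk).2 e he).eq, mul_inv_cancel_right]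
    by_cases hee : e' * e⁻¹ = 1
    · rw [hne', mul_inv_eq_one.mp hee]
    · exfalso
      refine hno ⟨k, hk, _, mul_mem he' (inv_mem he), hee, ?_⟩
      rw [← mul_assoc, ← h2, mul_inv_cancel_right]
  -- a two-element inducing an involution on `E`
  let S : Sylow 2 NP := default
  obtain ⟨s, hsS, hsE⟩ : ∃ s : NP, s ∈ (S : Subgroup NP) ∧ (s : G) ∉ centralizer (E : Set G) := by
    by_contra hall
    push Not at hall
    let St : Subgroup NP := (centralizer ({u} : Set G)).subgroupOf NP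
    have hSt : (S : Subgroup NP) ≤ St := fun s hs => mem_subgroupOf.mpr
      (mem_centralizer_singleton_iff.mpr (hfix (mem_inf.mpr ⟨(mem_inf.mp (mem_inf.mp s.2).1).1,
        hall s hs⟩) (mem_inf.mp s.2).2).eq)
    have hidx : St.index = 8 := by
      rw [← hq]
      choose e he hne using fun e : E => hsurj e e.2
      refine (Nat.card_eq_of_bijective (fun f : E => QuotientGroup.mk (s := St) ⟨e f, he f⟩)
        ⟨fun f f' hff => ?_, fun z => ?_⟩).symm
      · have h1 := mem_centralizer_singleton_iff.mp (mem_subgroupOf.mp (QuotientGroup.eq.mp hff))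
        simp only [Subgroup.coe_mul, Subgroup.coe_inv] at h1
        have h2 : e f * u * (e f)⁻¹ = e f' * u * (e f')⁻¹ := by
          calc e f * u * (e f)⁻¹ = e f * (u * ((e f)⁻¹ * e f')) * (e f')⁻¹ := by group
            _ = e f * (((e f)⁻¹ * e f') * u) * (e f')⁻¹ := by rw [h1]
            _ = _ := by group
        rw [hne f, hne f'] at h2
        exact Subtype.ext (mul_left_cancel h2)
      · obtain ⟨⟨n, hn⟩, rfl⟩ := QuotientGroup.mk_surjective z
        obtain ⟨e', he', hne'⟩ := hNPe hn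
        refine ⟨⟨e', he'⟩, QuotientGroup.eq.mpr (mem_subgroupOf.mpr
          (mem_centralizer_singleton_iff.mpr ?_))⟩
        push_cast
        set n' := e ⟨e', he'⟩
        have h2 : n * u * n⁻¹ = n' * u * n'⁻¹ := by rw [hne', hne ⟨e', he'⟩]
        calc n'⁻¹ * n * u = n'⁻¹ * (n * u * n⁻¹) * n := by group
          _ = n'⁻¹ * (n' * u * n'⁻¹) * n := by rw [h2]
          _ = u * (n'⁻¹ * n) := by group
    have hdvd := index_dvd_of_le hSt
    rw [hidx] at hdvd
    exact S.not_dvd_index ((by norm_num : (2 : ℕ) ∣ 8).trans hdvd)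
  obtain ⟨k, hk⟩ := IsPGroup.iff_orderOf.mp S.2 ⟨s, hsS⟩
  rw [Subgroup.orderOf_mk, ← orderOf_coe] at hk
  have hex : ∃ i, (s : G) ^ 2 ^ i ∈ centralizer (E : Set G) :=
    ⟨k, by rw [← hk, pow_orderOf_eq_one]; exact one_mem _⟩
  obtain ⟨i, hi⟩ : ∃ i, Nat.find hex = i + 1 := by
    refine Nat.exists_eq_succ_of_ne_zero fun e => hsE ?_
    have := Nat.find_spec hex
    rwa [e, pow_zero, pow_one] at this
  set n := (s : G) ^ 2 ^ i with hn
  have hnNP : n ∈ NP := pow_mem s.2 _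
  have hnE' : n ∉ centralizer (E : Set G) := Nat.find_min hex (by omega)
  have hn2E : n * n ∈ centralizer (E : Set G) := by
    have := Nat.find_spec hex
    rw [hi, pow_succ, pow_mul, pow_two] at this
    exact this
  have hnEn : n ∈ normalizer (E : Set G) := (mem_inf.mp (mem_inf.mp hnNP).1).2
  have hnPn : n ∈ normalizer (P : Set G) := (mem_inf.mp hnNP).2
  have hnE : ∀ e ∈ E, n * e * n⁻¹ ∈ E := fun e he => (mem_normalizer_iff.mp hnEn e).mp he
  -- the twist
  have huQ : u ∉ Q := fun hu => conj_notMem_line h hl 1 (by simpa using hl.omega u hu hu2)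
  have himg : ∀ g ∈ Q, ∃ g' ∈ Q, ∃ z ∈ zpowers u, n * g * n⁻¹ = g' * z := by
    intro g hg
    rcases hsqR _ ((mem_normalizer_iff.mp hnPn g).mp (hQP hg)) (by
      have := hnE _ (hl.sq_mem g hg)
      rwa [show n * g * n⁻¹ * (n * g * n⁻¹) = n * (g * g) * n⁻¹ by group] ) with h1 | h1
    · exact ⟨_, h1, 1, one_mem _, (mul_one _).symm⟩
    · exact ⟨_, h1, u, mem_zpowers u, by rw [mul_assoc _ u u, huu, mul_one]⟩
  choose! f hf z hz hfz using himg
  have huz : ∀ z ∈ zpowers u, z = 1 ∨ z = u := fun z hz => by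
    obtain ⟨j, rfl⟩ := hz
    have h2 : u ^ (2 : ℤ) = 1 := by rw [zpow_ofNat, pow_two, huu]
    rcases Int.even_or_odd j with ⟨m, rfl⟩ | ⟨m, rfl⟩
    · left; show u ^ (m + m) = 1; rw [← two_mul, zpow_mul, h2, one_zpow]
    · right
      show u ^ (2 * m + 1) = u
      rw [zpow_add, zpow_mul, h2, one_zpow, one_mul, zpow_one]
  have hzg : ∀ g ∈ Q, ∀ k ∈ Q, Commute (z g) k := fun g hg k hk => by
    rcases huz _ (hz g hg) with e | e <;> rw [e]
    · exact Commute.one_left k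
    · exact (line2_commute hl hk).symm
  refine false_of_twist hs hl.E_le hq hQ hl.central (fun e he => line2_mul_self hl h he) hl.sq_mem
    hl.comm_mem (fun e he => (mem_centralizer_iff.mp hn2E e he).symm) hnE ?_ f hf ?_ ?_
  · by_contra hall
    push Not at hall
    exact hnE' (mem_centralizer_iff.mpr fun e he => (mul_inv_eq_iff_eq_mul.mp (hall e he)).symm)
  · intro g hg k hk
    have h1 := hfz (g * k) (Q.mul_mem hg hk)
    have h2 : n * (g * k) * n⁻¹ = f g * f k * (z g * z k) := by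
      rw [show n * (g * k) * n⁻¹ = n * g * n⁻¹ * (n * k * n⁻¹) by group, hfz g hg, hfz k hk,
        mul_assoc, ← mul_assoc (z g), (hzg g hg _ (hf k hk)).eq]
      group
    rw [h2] at h1
    have h3 : (f (g * k))⁻¹ * (f g * f k) = z (g * k) * (z g * z k)⁻¹ := by
      rw [eq_mul_inv_iff_mul_eq, mul_assoc, h1, inv_mul_cancel_left]
    have h4 : (f (g * k))⁻¹ * (f g * f k) ∈ Q :=
      Q.mul_mem (Q.inv_mem (hf _ (Q.mul_mem hg hk))) (Q.mul_mem (hf g hg) (hf k hk))
    have h5 : z (g * k) * (z g * z k)⁻¹ ∈ zpowers u :=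
      mul_mem (hz _ (Q.mul_mem hg hk)) (inv_mem (mul_mem (hz g hg) (hz k hk)))
    rw [h3] at h4
    rcases huz _ h5 with e | e
    · rw [e, inv_mul_eq_one] at h3
      exact h3
    · exact absurd (e ▸ h4) huQ
  · intro g hg
    have hzz : z g * z g = 1 := by
      rcases huz _ (hz g hg) with e | e <;> rw [e]
      · exact one_mul 1
      · exact huu
    rw [show n * (g * g) * n⁻¹ = n * g * n⁻¹ * (n * g * n⁻¹) by group, hfz g hg,
      (hzg g hg _ (hf g hg)).mul_mul_mul_comm, hzz, mul_one]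

/-- A line of shape two with `|E| = 8` has translations. -/
theorem false_of_squaring_eight (h : Crit G Ω D) (hP : RankOnePairs (G := G) Ω) {u : G} {x : Ω}
    {E Q : Subgroup G} (hl : Line2 D u x E Q) (hs : Squaring Q E) (hQE : ¬ Q ≤ E)
    (hq : Nat.card E = 8) (hno : ¬ HasTranslation u x E) : False := by
  refine false_of_suzuki_eight h hP hl hs hq ?_ hno
  have hle : Nat.card Q ≤ 64 := by
    classical
    let sqm : Q → E := fun g => ⟨(g : G) * g, hl.sq_mem g g.2⟩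
    let r : E → G := fun z => if hz : ∃ g : Q, sqm g = z then (hz.choose : G) else 1
    have hr : ∀ g : Q, (g : G) * (r (sqm g))⁻¹ ∈ E := fun g => by
      have hz : ∃ g' : Q, sqm g' = sqm g := ⟨g, rfl⟩
      simp only [r, dif_pos hz]
      exact hs.inj g g.2 _ hz.choose.2 (congrArg Subtype.val hz.choose_spec).symm
    let f : Q → E × E := fun g => (sqm g, ⟨_, hr g⟩)
    have hf : Function.Injective f := fun g g' e => by
      simp only [f, Prod.mk.injEq, Subtype.mk.injEq] at e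
      obtain ⟨e1, e2⟩ := e
      rw [e1] at e2
      exact Subtype.ext (mul_right_cancel e2)
    have := Nat.card_le_card_of_injective f hf
    rwa [Nat.card_prod, hq] at this
  rcases hl.card_cases with e | e | e <;> rw [hq] at e
  · exact absurd (eq_of_le_of_card_ge hl.E_le (by rw [e, hq])).ge hQE
  · exact e
  · omega

end Cfsg.Agent.H73.Asch
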